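import Groth.Agent.H9Hilb.Normal
import Groth.Agent.ArtFunLib.Hull.Seed
import Mathlib.LinearAlgebra.TensorProduct.Basis

/-! The fibres of a functor of Artin rings along a semi-small extension. -/

set_option autoImplicit false
set_option backward.isDefEq.respectTransparency false
set_option backward.isDefEq.respectTransparency.types false

universe u v

open CategoryTheory ArtFun ArtFun.Art

noncomputable section

namespace Groth.Agent.H9Hilb

open Groth.Agent.ArtFunLib
open Groth.Agent.ArtFunLib.Hull (En lmap tailMap isFibreProd_En)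

variable {k : Type u} [Field k] {F : Art k k ⥤ Type v}

theorem bijective_coords (h0 : H0 F) (h2 : Heps F) :
    ∀ n : ℕ, Function.Bijective fun (ξ : F.obj (En n)) (i : Fin n) => F.map (lmap (LinearMap.proj i)) ξ := by
  intro n
  induction n with
  | zero =>
    haveI : IsIso (toBase (En 0 : Art k k)) := isIso_of_bijective _
      ⟨fun a b e => TrivSqZeroExt.ext e (Subsingleton.elim _ _), fun a => ⟨TrivSqZeroExt.inl a, rfl⟩⟩
    refine ⟨fun a b _ => (map_bijective_of_isIso F (toBase (En 0 : Art k k))).1 (@Subsingleton.elim _ h0.2 _ _),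
      fun g => ?_⟩
    obtain ⟨b₀⟩ := h0.1
    obtain ⟨a, -⟩ := (map_bijective_of_isIso F (toBase (En 0 : Art k k))).2 b₀
    exact ⟨a, funext fun i => i.elim0⟩
  | succ n ih =>
    have hl : ∀ i : Fin n, (lmap (LinearMap.proj i.succ) : (En (n + 1) : Art k k) ⟶ _) = tailMap n ≫ lmap (LinearMap.proj i) :=
      fun i => hom_apply_ext fun _ => TrivSqZeroExt.ext rfl rfl
    refine ⟨fun a b e => cmp_ext (h2 _ _ (isFibreProd_En n)).1 (ih.1 (funext fun i => ?_)) (congrFun e 0),
      fun g => ?_⟩
    · change F.map (lmap (LinearMap.proj i)) (F.map (tailMap n) a) = F.map (lmap (LinearMap.proj i)) (F.map (tailMap n) b)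
      rw [← map_comp', ← map_comp', ← hl]
      exact congrFun e i.succ
    · obtain ⟨y, hy⟩ := ih.2 fun i => g i.succ
      obtain ⟨z, hz₁, hz₂⟩ := exists_of_cmp_surjective (h2 _ _ (isFibreProd_En n)).2 y (g 0) (map_toBase_eq h0 _ _)
      refine ⟨z, funext fun i => ?_⟩
      refine Fin.cases hz₂ (fun i => ?_) i
      change F.map (lmap (LinearMap.proj i.succ)) z = _
      rw [hl, map_comp', hz₁]
      exact congrFun hy i

theorem mul_eq_res_smul {C' C : Art k k} (p : C' ⟶ C) (hp : IsSemismallExt p) (r j : C')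
    (hj : j ∈ RingHom.ker p.toAlgHom) : r * j = C'.res r • j := by
  have hm : r - algebraMap k C' (C'.res r) ∈ IsLocalRing.maximalIdeal C' := by
    rw [mem_maximalIdeal_iff, map_sub, C'.res.commutes]
    exact sub_self _
  have := Ideal.mul_mem_mul hm hj
  rw [hp.2, Ideal.mem_bot, sub_mul, sub_eq_zero] at this
  rw [this, Algebra.smul_def]

theorem nonempty_equiv_fibre (h0 : H0 F) (h2 : Heps F)
    (hb : ∀ ⦃B A A' A'' : Art k k⦄ (p' : B ⟶ A') (p'' : B ⟶ A'') (f' : A' ⟶ A) (f'' : A'' ⟶ A)
      (h : IsFibreProd p' p'' f' f''), Function.Surjective f'' → Function.Bijective (cmp F h))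
    {C' C : Art k k} (p : C' ⟶ C) (hp : IsSemismallExt p) (n : ℕ)
    (b : Module.Basis (Fin n) k ↥(RingHom.ker p.toAlgHom)) (I : F.obj C) (hne : ∃ I', F.map p I' = I) :
    Nonempty ({I' : F.obj C' // F.map p I' = I} ≃ (Fin n → F.obj (Art.dual k k))) := by
  obtain ⟨I₁, rfl⟩ := hne
  obtain ⟨P, p₁, p₂, hP⟩ := exists_isFibreProd p p hp.1
  have hd : ∀ z, p₂ z - p₁ z ∈ RingHom.ker p.toAlgHom := fun z => by
    rw [mem_ker_iff, map_sub p.toAlgHom]
    exact sub_eq_zero.2 (hP.w_apply z).symm
  let d : P → ↥(RingHom.ker p.toAlgHom) := fun z => ⟨p₂ z - p₁ z, hd z⟩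
  have hmul : ∀ x y, d (x * y) = P.res x • d y + P.res y • d x := fun x y => Subtype.ext <| by
    change p₂.toAlgHom (x * y) - p₁.toAlgHom (x * y) =
      P.res x • (p₂.toAlgHom y - p₁.toAlgHom y) + P.res y • (p₂.toAlgHom x - p₁.toAlgHom x)
    have e₁ := mul_eq_res_smul p hp (p₂ x) _ (hd y)
    have e₂ := mul_eq_res_smul p hp (p₁ y) _ (hd x)
    rw [res_app] at e₁ e₂
    rw [← e₁, ← e₂, map_mul, map_mul]
    ring
  let co : ↥(RingHom.ker p.toAlgHom) →ₗ[k] (Fin n → k) := b.equivFun.toLinearMap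
  let G : P →ₐ[k] TrivSqZeroExt k (Fin n → k) :=
    { toFun := fun z => (P.res z, co (d z))
      map_one' := TrivSqZeroExt.ext (map_one _) (by
        change co (d 1) = _
        rw [show d 1 = 0 from Subtype.ext (by
          change p₂.toAlgHom 1 - p₁.toAlgHom 1 = 0
          rw [map_one, map_one, sub_self]), map_zero, TrivSqZeroExt.snd_one])
      map_zero' := TrivSqZeroExt.ext (map_zero _) (by
        change co (d 0) = _
        rw [show d 0 = 0 from Subtype.ext (by
          change p₂.toAlgHom 0 - p₁.toAlgHom 0 = 0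
          rw [map_zero, map_zero, sub_self]), map_zero, TrivSqZeroExt.snd_zero])
      map_add' := fun x y => TrivSqZeroExt.ext (map_add _ _ _) (by
        change co (d (x + y)) = co (d x) + co (d y)
        rw [← map_add, show d (x + y) = d x + d y from Subtype.ext (by
          change p₂.toAlgHom (x + y) - p₁.toAlgHom (x + y) = (p₂.toAlgHom x - p₁.toAlgHom x) + (p₂.toAlgHom y - p₁.toAlgHom y)
          rw [map_add, map_add]; abel)])
      map_mul' := fun x y => TrivSqZeroExt.ext (map_mul _ _ _) (by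
        change co (d (x * y)) = P.res x • co (d y) + MulOpposite.op (P.res y) • co (d x)
        rw [hmul, map_add, map_smul, map_smul, op_smul_eq_smul])
      commutes' := fun c => TrivSqZeroExt.ext (P.res.commutes c) (by
        change co (d (algebraMap k P c)) = _
        rw [show d (algebraMap k P c) = 0 from Subtype.ext (by
          change p₂.toAlgHom (algebraMap k P c) - p₁.toAlgHom (algebraMap k P c) = 0
          rw [AlgHom.commutes, AlgHom.commutes, sub_self]), map_zero, TrivSqZeroExt.algebraMap_eq_inl',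
          TrivSqZeroExt.snd_inl]) }
  let g : P ⟶ (En n : Art k k) := ⟨G, AlgHom.ext fun _ => rfl⟩
  have hg : IsFibreProd p₁ g (toBase C') (toBase (En n : Art k k)) := by
    refine ⟨by rw [eq_toBase (p₁ ≫ _), eq_toBase (g ≫ _)], fun z₁ z₂ h₁ h₂ => hP.inj _ _ h₁ ?_, fun c a e => ?_⟩
    · have h₃ : co (d z₁) = co (d z₂) := congrArg TrivSqZeroExt.snd h₂
      have h₄ : p₂ z₁ - p₁ z₁ = p₂ z₂ - p₁ z₂ := congrArg Subtype.val (b.equivFun.injective h₃)
      rw [h₁] at h₄
      exact sub_left_inj.1 h₄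
    · let j : ↥(RingHom.ker p.toAlgHom) := b.equivFun.symm a.snd
      obtain ⟨z, hz₁, hz₂⟩ := hP.surj c (c + j.1) (by
        change p.toAlgHom c = p.toAlgHom (c + j.1)
        rw [map_add, show p.toAlgHom j.1 = 0 from j.2, add_zero])
      refine ⟨z, hz₁, TrivSqZeroExt.ext ?_ ?_⟩
      · change P.res z = a.fst
        rw [← res_app p₁, hz₁]
        exact e
      · change co (d z) = a.snd
        rw [show d z = j from Subtype.ext (by change p₂ z - p₁ z = j.1; rw [hz₁, hz₂, add_sub_cancel_left])]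
        exact b.equivFun.apply_symm_apply _
  have hs : Function.Surjective (toBase (En n : Art k k)) := fun a => ⟨TrivSqZeroExt.inl a, rfl⟩
  choose z hz₁ hz₂ using fun w : F.obj (En n) =>
    exists_of_cmp_surjective (hb p₁ g _ _ hg hs).2 I₁ w (map_toBase_eq h0 _ _)
  let φ : F.obj (En n) → {I' : F.obj C' // F.map p I' = F.map p I₁} := fun w => ⟨F.map p₂ (z w), by
    rw [← map_comp', ← hP.w, map_comp', hz₁]⟩
  have hφ : Function.Bijective φ := by
    constructor
    · intro w w' e
      have e' : z w = z w' := cmp_ext (hb p₁ p₂ _ _ hP hp.1).1 ((hz₁ w).trans (hz₁ w').symm) (congrArg Subtype.val e)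
      rw [← hz₂ w, ← hz₂ w', e']
    · rintro ⟨I', hI'⟩
      obtain ⟨y, hy₁, hy₂⟩ := exists_of_cmp_surjective (hb p₁ p₂ _ _ hP hp.1).2 I₁ I' hI'.symm
      refine ⟨F.map g y, Subtype.ext ?_⟩
      change F.map p₂ (z (F.map g y)) = I'
      rw [← hy₂]
      exact congrArg _ (cmp_ext (hb p₁ g _ _ hg hs).1 ((hz₁ _).trans hy₁.symm) (hz₂ _))
  exact ⟨(Equiv.ofBijective φ hφ).symm.trans (Equiv.ofBijective _ (bijective_coords h0 h2 n))⟩

end Groth.Agent.H9Hilb
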