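import Groth.Agent.H9Hilb.Smooth
import Groth.Agent.H9DefT.LiftMinors
import Groth.Agent.H9DefT.CodimTwoScheme

/-! Local lifts for Cohen–Macaulay subschemes of codimension two. -/

set_option autoImplicit false
set_option linter.style.haveILetI false
set_option backward.isDefEq.respectTransparency false
set_option backward.isDefEq.respectTransparency.types false

universe u

open CategoryTheory CategoryTheory.Limits AlgebraicGeometry ArtFun ArtFun.Art Opposite

noncomputable section

namespace Groth.Agent.H9Hilb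

open Groth.Agent.ArtFunLib Groth.Agent.ArtFunLib.HilbAffine Groth.Agent.ArtFunLib.HilbSit
  Groth.Agent.H9DefT

theorem hasRegularPair_of_equiv {R S : Type u} [CommRing R] [CommRing S] (e : R ≃+* S) {I : Ideal R}
    (h : McCoy.HasRegularPair I) : McCoy.HasRegularPair (I.map e.toRingHom) := by
  rcases h with h | ⟨a, ha, b, hb, hreg, hdiv⟩
  · exact Or.inl (by rw [h, Ideal.map_top])
  · refine Or.inr ⟨e a, Ideal.mem_map_of_mem _ ha, e b, Ideal.mem_map_of_mem _ hb,
      mem_nonZeroDivisors_iff_right.2 fun z hz => ?_, fun z hz => ?_⟩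
    · obtain ⟨z, rfl⟩ := e.surjective z
      rw [← map_mul, EmbeddingLike.map_eq_zero_iff] at hz
      rw [mem_nonZeroDivisors_iff_right.1 hreg z hz, map_zero]
    · obtain ⟨z, rfl⟩ := e.surjective z
      rw [← map_mul, map_dvd_iff] at hz
      exact map_dvd e (hdiv z hz)

variable {k : Type u} [Field k] {X : Scheme.{u}} {x : X ⟶ specPt k} {I₀ : X.IdealSheafData}

theorem locLifts_of_codim_two [Smooth x]
    (hCM : ∀ y : I₀.subscheme, LocCoh.IsCohenMacaulayLocalRing (I₀.subscheme.presheaf.stalk y))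
    (hcodim : ∀ y : I₀.subscheme, ringKrullDim (I₀.subscheme.presheaf.stalk y) + 2 =
      ringKrullDim (X.presheaf.stalk (I₀.subschemeι.base y))) : LocLifts x I₀ := by
  intro B A p hp IA P hP y
  obtain ⟨U, hyU, r, φ₀, hspan, -, hrange, hpair⟩ :=
    exists_affine_resolution_pair k X I₀.subscheme x I₀.subschemeι hCM hcodim y
  rw [I₀.ker_subschemeι] at hspan
  let RA := Γ(XA x A, (W x A U).1)
  let _ : Algebra A RA := (c x A U).toAlgebra
  have : Module.Flat A RA := RingHom.flat_algebraMap_iff.1 (flat_c x A U)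
  have : Module.Flat A (RA ⧸ IA.1.ideal (W x A U)) :=
    RingHom.flat_algebraMap_iff.1 (flat_quotient x IA.1 IA.2.1 U)
  let mA : Ideal RA := (IsLocalRing.maximalIdeal A).map (algebraMap A RA)
  have hker : RingHom.ker (rho x A U) = mA := (rho_spec x A U).2
  let e : RA ⧸ mA ≃+* Γ(X, U.1) :=
    (Ideal.quotEquivOfEq hker.symm).trans (RingHom.quotientKerEquivOfSurjective (rho_spec x A U).1)
  have he : ∀ a, e (Ideal.Quotient.mk mA a) = rho x A U a := fun a => rfl
  have hemk : e.toRingHom.comp (Ideal.Quotient.mk mA) = rho x A U := RingHom.ext he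
  let φ : Matrix (Fin (r + 1)) (Fin r) (RA ⧸ mA) := φ₀.map e.symm
  have hφe : φ.map e.toRingHom = φ₀ := by ext i l; simp [φ]
  obtain ⟨Φ, hΦ, hIA⟩ := exists_lift_matrix (C := A) (A := RA) (IsLocalRing.maximalIdeal A)
    (IsLocalRing.maximalIdeal.isMaximal A).ne_top φ (IA.1.ideal (W x A U))
    (by
      refine (Ideal.comap_map_of_bijective e.toRingHom e.bijective).symm.trans
        ((congrArg (Ideal.comap e.toRingHom) ?_).trans (Ideal.comap_map_of_bijective e.toRingHom e.bijective))
      rw [Ideal.map_map, hemk, ← comap_incl_ideal, IA.2.2, ← hspan, span_map_minors, hφe])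
    (fun φ' hφ' => by
      rw [hφ']
      have h := hasRegularPair_of_equiv e.symm hpair
      convert h using 1
      rw [McCoy.minorIdeal_eq_span_delta, McCoy.minorIdeal_eq_span_delta, Ideal.map_span, ← Set.range_comp]
      congr 2
      funext i
      exact (map_minors e.symm.toRingHom φ₀ i).symm)
  choose Ψ hΨ using fun (i : Fin (r + 1)) (l : Fin r) => (pi_spec x p hp U).1 (Φ i l)
  let Ψm : Matrix (Fin (r + 1)) (Fin r) Γ(XA x B, (W x B U).1) := Matrix.of Ψ
  have hπ : Ψm.map (pi x p U) = Φ := by ext i l; exact hΨ i l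
  have hρ : Ψm.map (rho x B U) = φ₀ := by
    rw [← hφe, ← hΦ]
    ext i l
    show rho x B U (Ψ i l) = e (Ideal.Quotient.mk mA (Φ i l))
    rw [he, ← hΨ i l, rho_pi]
  refine ⟨U, hyU, r + 1, minors φ₀, minors Ψm, hspan, fun i => ?_, fun i => by rw [map_minors, hρ], fun u hu => ?_⟩
  · rw [hP, Ideal.mem_comap, map_minors, hπ, hIA]
    exact Ideal.subset_span ⟨i, rfl⟩
  · obtain ⟨w, rfl⟩ : u ∈ LinearMap.range φ₀.mulVecLin := by
      rw [hrange, LinearMap.mem_ker, Fintype.linearCombination_apply]
      exact hu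
    have hc : corr (minors Ψm) (φ₀.mulVecLin w) = ∑ l, fstPull x B U (w l) *
        ∑ i, (fstPull x B U (φ₀ i l) - Ψ i l) * minors Ψm i := by
      have h0 : ∀ l, ∑ i, Ψ i l * minors Ψm i = 0 := fun l => by
        rw [← sum_minors_mul Ψm l]
        exact Finset.sum_congr rfl fun i _ => mul_comm _ _
      simp only [sub_mul, Finset.sum_sub_distrib, h0, sub_zero, corr, Matrix.mulVecLin_apply, Matrix.mulVec,
        dotProduct, map_sum, map_mul, Finset.sum_mul, Finset.mul_sum]
      rw [Finset.sum_comm]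
      exact Finset.sum_congr rfl fun l _ => Finset.sum_congr rfl fun i _ => by ring
    rw [hc]
    refine sum_mem fun l _ => Ideal.mul_mem_left _ _ (sum_mem fun i _ => Ideal.mul_mem_mul ?_ ?_)
    · rw [← (rho_spec x B U).2, RingHom.mem_ker, map_sub, rho_fst, ← hρ, Matrix.map_apply]
      exact sub_self _
    · rw [hP, Ideal.mem_comap, map_minors, hπ, hIA]
      exact Ideal.subset_span ⟨i, rfl⟩

end Groth.Agent.H9Hilb
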