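import Groth.Agent.H9Hilb.Split
import Groth.Agent.QCoh.GodHH
import Groth.Agent.ExtShX.LinearHom
import Groth.Agent.SheafHomX.Main

/-! The obstruction in `H¹(hom(C, N))` to extending a locally extendable morphism. -/

set_option autoImplicit false
set_option backward.isDefEq.respectTransparency false
set_option backward.isDefEq.respectTransparency.types false

universe u

open CategoryTheory CategoryTheory.Limits AlgebraicGeometry

noncomputable section

namespace Groth.Agent.H9Hilb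

variable {Y : Scheme.{u}} {S : ShortComplex Y.Modules} (hS : S.Exact) (hg : Epi S.g)

/-- `κ` extends to the middle term near every point. -/
def LocExt (S : ShortComplex Y.Modules) {N : Y.Modules} (κ : S.X₁ ⟶ N) : Prop :=
  ∀ y : Y, ∃ V : Y.Opens, y ∈ V ∧ ∃ θ : (Scheme.Modules.restrictFunctor V.ι).obj S.X₂ ⟶
    (Scheme.Modules.restrictFunctor V.ι).obj N,
      (Scheme.Modules.restrictFunctor V.ι).map S.f ≫ θ = (Scheme.Modules.restrictFunctor V.ι).map κ

variable {N : Y.Modules} (κ : S.X₁ ⟶ N)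

/-- The extension of `S.X₃` by `N` pushed out along `κ`. -/
def extSC : ShortComplex Y.Modules :=
  ShortComplex.mk (pushout.inr S.f κ) (pushout.desc S.g 0 (by rw [S.zero, comp_zero]))
    (pushout.inr_desc _ _ _)

theorem extSC_inl : pushout.inl S.f κ ≫ (extSC κ).g = S.g := pushout.inl_desc _ _ _

include hS hg in
theorem extSC_exact : (extSC κ).Exact ∧ Epi (extSC κ).g := by
  let E := extSC κ
  have hepi : Epi E.g := by
    have := hg
    have h : Epi (pushout.inl S.f κ ≫ E.g) := by rw [extSC_inl]; infer_instance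
    exact epi_of_epi (pushout.inl S.f κ) E.g
  refine ⟨?_, hepi⟩
  have := hg
  have hd : ∀ {Z : Y.Modules} (a : E.X₂ ⟶ Z), E.f ≫ a = 0 → ∃ d : E.X₃ ⟶ Z, S.g ≫ d = pushout.inl S.f κ ≫ a :=
    fun {Z} a ha => ⟨hS.desc (pushout.inl S.f κ ≫ a) (by
      rw [← Category.assoc, pushout.condition, Category.assoc]
      exact (congrArg (κ ≫ ·) ha).trans comp_zero), hS.g_desc _ _⟩
  choose d hd using @hd
  refine ShortComplex.exact_of_g_is_cokernel _
    (CokernelCofork.IsColimit.ofπ E.g E.zero (fun a ha => d a ha) (fun a ha => ?_) fun a ha b hb => ?_)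
  · refine pushout.hom_ext ?_ ?_
    · rw [← Category.assoc, extSC_inl]
      exact hd a ha
    · exact ((Category.assoc _ _ _).symm.trans (congrArg (· ≫ d a ha) E.zero)).trans (zero_comp.trans ha.symm)
  · refine (cancel_epi S.g).1 (Eq.trans ?_ (hd a ha).symm)
    rw [← hb, ← Category.assoc, extSC_inl]

theorem extSC_locSplit (h : LocExt S κ) (y : Y) :
    ∃ V : Y.Opens, y ∈ V ∧ IsSplitMono ((Scheme.Modules.restrictFunctor V.ι).map (extSC κ).f) := by
  obtain ⟨V, hyV, θ, hθ⟩ := h y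
  let R := Scheme.Modules.restrictFunctor V.ι
  have : R.IsLeftAdjoint := inferInstance
  have hpo := (IsPushout.of_hasPushout S.f κ).map R
  exact ⟨V, hyV, ⟨⟨⟨hpo.desc θ (𝟙 _) (by rw [hθ, Category.comp_id]), hpo.inr_desc _ _ _⟩⟩⟩⟩

/-- A locally split extension stays exact after `hom(C, -)`. -/
theorem map_hom_shortExact {T : ShortComplex Y.Modules} (hT : T.ShortExact) (C : Y.Modules)
    (hloc : ∀ y : Y, ∃ V : Y.Opens, y ∈ V ∧ IsSplitMono ((Scheme.Modules.restrictFunctor V.ι).map T.f)) :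
    (T.map (SheafHomX.hom C)).ShortExact := by
  choose V hyV hV using hloc
  have hcov : ∀ y : Y, ∃ i : Y, y ∈ Set.range (V i).ι.base := fun y => ⟨y, ⟨⟨y, hyV y⟩, rfl⟩⟩
  have hepi : Epi ((SheafHomX.hom C).map T.g) := by
    refine Preadditive.epi_of_cancel_zero _ fun {Z} a ha => ?_
    refine SheafHomX.eq_zero_of_restrict (fun i => (V i).ι) hcov a fun i => ?_
    let R := Scheme.Modules.restrictFunctor (V i).ι
    have : R.Additive := restrict_additive _
    have : R.IsLeftAdjoint := inferInstance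
    have : IsSplitMono (R.map T.f) := hV i
    have hex : (T.map R).Exact := hT.exact.map_of_epi_of_preservesCokernel R hT.epi_g inferInstance
    have : Epi (T.map R).g := by
      have := hT.epi_g
      exact R.map_epi T.g
    let σ := ShortComplex.Splitting.ofExactOfRetraction _ hex (retraction (R.map T.f)) (IsSplitMono.id (R.map T.f)) this
    let C' := R.obj C
    have h1 : (SheafHomX.hom C').map σ.s ≫ (SheafHomX.hom C').map (R.map T.g) = 𝟙 _ := by
      rw [← Functor.map_comp, show σ.s ≫ R.map T.g = 𝟙 _ from σ.s_g, CategoryTheory.Functor.map_id]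
    have h2 := SheafHomX.restrict_map (V i).ι C T.g
    have h3 : R.map ((SheafHomX.hom C).map T.g) ≫ R.map a = 0 := by rw [← Functor.map_comp, ha, Functor.map_zero]
    have he : Epi (R.map ((SheafHomX.hom C).map T.g)) := by
      have : IsSplitEpi ((SheafHomX.hom C').map (R.map T.g)) := ⟨⟨⟨_, h1⟩⟩⟩
      have e : R.map ((SheafHomX.hom C).map T.g) =
          (SheafHomX.restrictIso (V i).ι C).hom.app T.X₂ ≫ (SheafHomX.hom C').map (R.map T.g) ≫
            inv ((SheafHomX.restrictIso (V i).ι C).hom.app T.X₃) := by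
        rw [← Category.assoc, IsIso.eq_comp_inv]
        exact h2
      rw [e]
      infer_instance
    exact (cancel_epi (R.map ((SheafHomX.hom C).map T.g))).1 (h3.trans comp_zero.symm)
  have : (SheafHomX.hom C).IsRightAdjoint := (SheafHomX.adj C).isRightAdjoint
  exact
    { exact := hT.exact.map_of_mono_of_preservesKernel _ hT.mono_f inferInstance
      mono_f := by
        have := hT.mono_f
        exact (SheafHomX.hom C).map_mono T.f
      epi_g := hepi }

include hS hg in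
theorem extSC_hom_shortExact (h : LocExt S κ) :
    (extSC κ).ShortExact ∧ ((extSC κ).map (SheafHomX.hom S.X₃)).ShortExact := by
  choose V hyV hV using extSC_locSplit κ h
  have hm : Mono (extSC κ).f := Preadditive.mono_of_cancel_zero _ fun {Z} a ha => by
    refine SheafHomX.eq_zero_of_restrict (fun j => (V j).ι) (fun y => ⟨y, ⟨⟨y, hyV y⟩, rfl⟩⟩) a fun j => ?_
    have := restrict_additive (V j)
    have := hV j
    exact (cancel_mono ((Scheme.Modules.restrictFunctor (V j).ι).map (extSC κ).f)).1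
      (by rw [← Functor.map_comp, ha, Functor.map_zero, zero_comp])
  have hE : (extSC κ).ShortExact :=
    { exact := (extSC_exact hS hg κ).1, mono_f := hm, epi_g := (extSC_exact hS hg κ).2 }
  exact ⟨hE, map_hom_shortExact hE S.X₃ fun y => ⟨V y, hyV y, hV y⟩⟩

/-- The class of the identity of `C` under the connecting map. -/
def delta {T : ShortComplex Y.Modules} (hT : (T.map (SheafHomX.hom T.X₃)).ShortExact) :
    Coh.HH Y ((SheafHomX.hom T.X₃).obj T.X₁) 1 :=
  QCoh.Ab.connecting (X := Y.toPresheafedSpace.carrier) (QCoh.toAb_shortExact hT) 0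
    (SheafHomX.cls ((SheafHomX.ev T.X₃ T.X₃).symm (𝟙 T.X₃)))

/-- The obstruction. -/
def cl (h : LocExt S κ) : Coh.HH Y ((SheafHomX.hom S.X₃).obj N) 1 :=
  delta (T := extSC κ) (extSC_hom_shortExact hS hg κ h).2

theorem delta_naturality {C N N' E E' : Y.Modules} {f : N ⟶ E} {g : E ⟶ C} {w : f ≫ g = 0} {f' : N' ⟶ E'}
    {g' : E' ⟶ C} {w' : f' ≫ g' = 0} (hT : ((ShortComplex.mk f g w).map (SheafHomX.hom C)).ShortExact)
    (hT' : ((ShortComplex.mk f' g' w').map (SheafHomX.hom C)).ShortExact) (a : N ⟶ N') (b : E ⟶ E')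
    (h₁ : f ≫ b = a ≫ f') (h₂ : b ≫ g' = g) :
    Sheaf.H.map ((QCoh.toAbFunctor Y).map ((SheafHomX.hom C).map a)) 1 (delta (T := ShortComplex.mk f g w) hT) =
      delta (T := ShortComplex.mk f' g' w') hT' := by
  let Φ : ShortComplex.mk f g w ⟶ ShortComplex.mk f' g' w' :=
    { τ₁ := a, τ₂ := b, τ₃ := 𝟙 C, comm₁₂ := h₁.symm, comm₂₃ := by simp [h₂] }
  refine (QCoh.Ab.connecting_naturality (X := Y.toPresheafedSpace.carrier) (QCoh.toAb_shortExact hT)
    (QCoh.toAb_shortExact hT') ((QCoh.toAbFunctor Y).mapShortComplex.map ((SheafHomX.hom C).mapShortComplex.map Φ)) 0 _).trans ?_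
  refine congrArg (QCoh.Ab.connecting (X := Y.toPresheafedSpace.carrier) (QCoh.toAb_shortExact hT') 0) ?_
  refine (SheafHomX.map_cls _ ((SheafHomX.hom C).map (𝟙 C))).trans ?_
  rw [CategoryTheory.Functor.map_id, Category.comp_id]

theorem cl_eq {N' E' : Y.Modules} {f' : N' ⟶ E'} {g' : E' ⟶ S.X₃} {w' : f' ≫ g' = 0} (h : LocExt S κ)
    (hT' : ((ShortComplex.mk f' g' w').map (SheafHomX.hom S.X₃)).ShortExact) (a : N ⟶ N') (b : S.X₂ ⟶ E')
    (h₁ : S.f ≫ b = κ ≫ a ≫ f') (h₂ : b ≫ g' = S.g) :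
    Sheaf.H.map ((QCoh.toAbFunctor Y).map ((SheafHomX.hom S.X₃).map a)) 1 (cl hS hg κ h) =
      delta (T := ShortComplex.mk f' g' w') hT' :=
  delta_naturality (extSC_hom_shortExact hS hg κ h).2 hT' a (pushout.desc b (a ≫ f') h₁)
    (pushout.inr_desc _ _ _) (pushout.hom_ext (by rw [pushout.inl_desc_assoc, h₂]; exact (extSC_inl κ).symm)
      (by rw [pushout.inr_desc_assoc, Category.assoc, w', comp_zero]; exact (extSC κ).zero.symm))

theorem cl_comp {N' : Y.Modules} (a : N ⟶ N') (h : LocExt S κ) (h' : LocExt S (κ ≫ a)) :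
    cl hS hg (κ ≫ a) h' =
      Sheaf.H.map ((QCoh.toAbFunctor Y).map ((SheafHomX.hom S.X₃).map a)) 1 (cl hS hg κ h) :=
  (cl_eq hS hg κ h (extSC_hom_shortExact hS hg (κ ≫ a) h').2 a (pushout.inl S.f (κ ≫ a))
    (by rw [pushout.condition, Category.assoc]; try rfl) (extSC_inl _)).symm

theorem cl_of_map {X₁ X₂ : Y.Modules} {f : X₁ ⟶ X₂} {g : X₂ ⟶ S.X₃} {w : f ≫ g = 0}
    (hS' : (ShortComplex.mk f g w).Exact) (hg' : Epi g) (a₁ : X₁ ⟶ S.X₁) (a₂ : X₂ ⟶ S.X₂)
    (h₁ : a₁ ≫ S.f = f ≫ a₂) (h₂ : a₂ ≫ S.g = g) (h : LocExt S κ)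
    (h' : LocExt (ShortComplex.mk f g w) (a₁ ≫ κ)) :
    cl (S := ShortComplex.mk f g w) hS' hg' (a₁ ≫ κ) h' = cl hS hg κ h := by
  have e := cl_eq (S := ShortComplex.mk f g w) hS' hg' (a₁ ≫ κ) h' (extSC_hom_shortExact hS hg κ h).2 (𝟙 N)
    (a₂ ≫ pushout.inl S.f κ)
    (by rw [← Category.assoc, ← h₁, Category.assoc, pushout.condition, Category.id_comp, Category.assoc]; try rfl)
    ((Category.assoc _ _ _).trans ((congrArg (a₂ ≫ ·) (extSC_inl κ)).trans h₂))
  rw [CategoryTheory.Functor.map_id, CategoryTheory.Functor.map_id, Sheaf.H.map_id_apply] at e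
  exact e

theorem locExt_add {κ κ' : S.X₁ ⟶ N} (h : LocExt S κ) (h' : LocExt S κ') : LocExt S (κ + κ') := fun y => by
  obtain ⟨V, hV, θ, hθ⟩ := h y
  obtain ⟨V', hV', θ', hθ'⟩ := h' y
  let Z := V ⊓ V'
  let res : ∀ (W : Y.Opens) (hW : Z ≤ W), Scheme.Modules.restrictFunctor Z.ι ≅
      Scheme.Modules.restrictFunctor W.ι ⋙ Scheme.Modules.restrictFunctor (Y.homOfLE hW) := fun W hW =>
    Scheme.Modules.restrictFunctorCongr (Y.homOfLE_ι hW).symm ≪≫ Scheme.Modules.restrictFunctorComp _ _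
  have key : ∀ (W : Y.Opens) (hW : Z ≤ W) (κ₀ : S.X₁ ⟶ N)
      (t : (Scheme.Modules.restrictFunctor W.ι).obj S.X₂ ⟶ (Scheme.Modules.restrictFunctor W.ι).obj N),
      (Scheme.Modules.restrictFunctor W.ι).map S.f ≫ t = (Scheme.Modules.restrictFunctor W.ι).map κ₀ →
      (Scheme.Modules.restrictFunctor Z.ι).map S.f ≫ (res W hW).hom.app S.X₂ ≫
        (Scheme.Modules.restrictFunctor (Y.homOfLE hW)).map t ≫ (res W hW).inv.app N =
      (Scheme.Modules.restrictFunctor Z.ι).map κ₀ := fun W hW κ₀ t ht => by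
    rw [← Category.assoc, (res W hW).hom.naturality S.f, Category.assoc, Functor.comp_map, ← Functor.map_comp_assoc, ht,
      ← Functor.comp_map, NatTrans.naturality, Iso.hom_inv_id_app_assoc]
  refine ⟨Z, ⟨hV, hV'⟩, (res V inf_le_left).hom.app S.X₂ ≫
      (Scheme.Modules.restrictFunctor (Y.homOfLE inf_le_left)).map θ ≫ (res V inf_le_left).inv.app N +
    (res V' inf_le_right).hom.app S.X₂ ≫
      (Scheme.Modules.restrictFunctor (Y.homOfLE inf_le_right)).map θ' ≫ (res V' inf_le_right).inv.app N, ?_⟩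
  have : (Scheme.Modules.restrictFunctor Z.ι).Additive := restrict_additive _
  rw [Preadditive.comp_add, key V inf_le_left κ θ hθ, key V' inf_le_right κ' θ' hθ', Functor.map_add]

theorem LocExt.comp {N' : Y.Modules} {κ : S.X₁ ⟶ N} (h : LocExt S κ) (a : N ⟶ N') : LocExt S (κ ≫ a) := fun y => by
  obtain ⟨V, hV, θ, hθ⟩ := h y
  exact ⟨V, hV, θ ≫ (Scheme.Modules.restrictFunctor V.ι).map a, by rw [← Category.assoc, hθ, Functor.map_comp]⟩

theorem LocExt.precomp {S₁ : ShortComplex Y.Modules} {κ : S₁.X₁ ⟶ N} (h : LocExt S₁ κ) (S : ShortComplex Y.Modules)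
    (a₁ : S.X₁ ⟶ S₁.X₁) (a₂ : S.X₂ ⟶ S₁.X₂) (e : a₁ ≫ S₁.f = S.f ≫ a₂) : LocExt S (a₁ ≫ κ) := fun y => by
  obtain ⟨V, hV, θ, hθ⟩ := h y
  exact ⟨V, hV, (Scheme.Modules.restrictFunctor V.ι).map a₂ ≫ θ, by
    rw [← Category.assoc, ← Functor.map_comp, ← e, Functor.map_comp, Category.assoc, hθ, Functor.map_comp]⟩

theorem cl_congr {κ κ' : S.X₁ ⟶ N} (e : κ = κ') (h : LocExt S κ) (h' : LocExt S κ') :
    cl hS hg κ h = cl hS hg κ' h' := by
  subst e
  rfl

theorem cl_add (κ' : S.X₁ ⟶ N) (h : LocExt S κ) (h' : LocExt S κ') (h'' : LocExt S (κ + κ')) :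
    cl hS hg (κ + κ') h'' = cl hS hg κ h + cl hS hg κ' h' := by
  haveI := CategoryTheory.Abelian.hasFiniteBiproducts (C := Y.Modules)
  let l : S.X₁ ⟶ N ⊞ N := κ ≫ biprod.inl + κ' ≫ biprod.inr
  have hl : LocExt S l := locExt_add (h.comp _) (h'.comp _)
  have e₁ : l ≫ biprod.fst = κ := by simp [l]
  have e₂ : l ≫ biprod.snd = κ' := by simp [l]
  have e₃ : l ≫ (biprod.fst + biprod.snd) = κ + κ' := by rw [Preadditive.comp_add, e₁, e₂]
  rw [← cl_congr hS hg e₁ (hl.comp _) h, ← cl_congr hS hg e₂ (hl.comp _) h', ← cl_congr hS hg e₃ (hl.comp _) h'',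
    cl_comp hS hg l _ hl, cl_comp hS hg l _ hl, cl_comp hS hg l _ hl]
  rw [Sheaf.H.map_apply, Sheaf.H.map_apply, Sheaf.H.map_apply, ← Abelian.Ext.comp_add, ← Abelian.Ext.mk₀_add]
  refine congrArg (fun m => Abelian.Ext.comp _ (Abelian.Ext.mk₀ m) _) ?_
  show (QCoh.toAbFunctor Y).map _ = _
  have : (QCoh.toAbFunctor Y).Additive := inferInstance
  rw [Functor.map_add, Functor.map_add]

theorem cl_eq_zero_iff (h : LocExt S κ) : cl hS hg κ h = 0 ↔ ∃ θ : S.X₂ ⟶ N, S.f ≫ θ = κ := by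
  obtain ⟨hE, hT⟩ := extSC_hom_shortExact hS hg κ h
  show delta (T := extSC κ) hT = 0 ↔ _
  refine (QCoh.Ab.connecting_eq_zero_iff (X := Y.toPresheafedSpace.carrier) (QCoh.toAb_shortExact hT) 0 _).trans
    ⟨?_, ?_⟩
  · rintro ⟨z, hz⟩
    obtain ⟨s, rfl⟩ := SheafHomX.cls_surjective z
    have hs : s ≫ (SheafHomX.hom S.X₃).map (extSC κ).g = (SheafHomX.ev S.X₃ S.X₃).symm (𝟙 S.X₃) :=
      SheafHomX.cls_injective ((SheafHomX.map_cls s _).symm.trans hz)
    have hsec : SheafHomX.ev S.X₃ (extSC κ).X₂ s ≫ (extSC κ).g = 𝟙 S.X₃ := by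
      rw [← SheafHomX.ev_naturality]
      exact (congrArg (SheafHomX.ev S.X₃ S.X₃) hs).trans ((SheafHomX.ev S.X₃ S.X₃).apply_symm_apply _)
    have := hE.mono_f
    let σ := ShortComplex.Splitting.ofExactOfSection _ hE.exact _ hsec this
    refine ⟨pushout.inl S.f κ ≫ σ.r, ?_⟩
    rw [← Category.assoc, pushout.condition, Category.assoc]
    exact (congrArg (κ ≫ ·) σ.f_r).trans (Category.comp_id _)
  · rintro ⟨θ, hθ⟩
    have := hE.epi_g
    let σ := ShortComplex.Splitting.ofExactOfRetraction _ hE.exact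
      (pushout.desc θ (𝟙 N) (by rw [hθ, Category.comp_id])) (pushout.inr_desc _ _ _) this
    refine ⟨SheafHomX.cls ((SheafHomX.ev S.X₃ (extSC κ).X₂).symm σ.s),
      (SheafHomX.map_cls _ _).trans (congrArg SheafHomX.cls ?_)⟩
    apply (SheafHomX.ev S.X₃ S.X₃).injective
    refine Eq.trans ?_ ((SheafHomX.ev S.X₃ S.X₃).apply_symm_apply (𝟙 S.X₃)).symm
    exact ((SheafHomX.ev_naturality _ (extSC κ).g).trans
      (congrArg (· ≫ (extSC κ).g) ((SheafHomX.ev S.X₃ (extSC κ).X₂).apply_symm_apply σ.s))).trans σ.s_g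

theorem cl_smul {A : Type u} [CommRing A] [Y.Over (Spec (CommRingCat.of A))] (r : A) (h : LocExt S κ)
    (h' : LocExt S (κ ≫ Formal.smulMod A N r)) :
    cl hS hg (κ ≫ Formal.smulMod A N r) h' = r • cl hS hg κ h := by
  rw [cl_comp hS hg κ _ h h', ExtShX.hom_smulMod]
  rfl

theorem cl_zero (h : LocExt S (0 : S.X₁ ⟶ N)) : cl hS hg (0 : S.X₁ ⟶ N) h = 0 :=
  (cl_eq_zero_iff hS hg 0 h).2 ⟨0, comp_zero⟩

end Groth.Agent.H9Hilb
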