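import Groth.Agent.ArtFunLib.HilbIdeal
import Groth.Agent.DefGlueLib.Alg

/-! The local Hilbert functor and fibre products. -/

set_option autoImplicit false
set_option backward.isDefEq.respectTransparency false
set_option backward.isDefEq.respectTransparency.types false

universe u

open CategoryTheory CategoryTheory.Limits AlgebraicGeometry ArtFun ArtFun.Art Opposite

noncomputable section

namespace Groth.Agent.H9Hilb

open Groth.Agent.ArtFunLib Groth.Agent.ArtFunLib.HilbAffine Groth.Agent.ArtFunLib.HilbSit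
open Groth.Agent.DefGlueLib (IsDef fibRing isDef_fib eq_top_of_sup_smul)

variable {k : Type u} [Field k] {X : Scheme.{u}} (x : X ⟶ specPt k) (I₀ : X.IdealSheafData)

/-- The scalars on an affine open. -/
def cst (U : X.affineOpens) : k →+* Γ(X, U.1) :=
  ((Scheme.ΓSpecIso (CommRingCat.of k)).inv ≫ x.appLE ⊤ U.1 le_top).hom

/-- The scalars of the closed subscheme on an affine open. -/
abbrev c₀ (U : X.affineOpens) : k →+* Γ(X, U.1) ⧸ I₀.ideal U := (Ideal.Quotient.mk _).comp (cst x U)

theorem rho_c (B : Art k k) (U : X.affineOpens) (b : B) :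
    rho x B U (c x B U b) = cst x U (B.res b) := by
  have h1 : (XApr x B).appLE ⊤ (W x B U).1 (fun _ _ => trivial) ≫
      (XAincl x B).appLE (W x B U).1 U.1 (rho_le x B U).le =
      (specRes B).appTop ≫ x.appLE ⊤ U.1 le_top := by
    rw [Scheme.Hom.appLE_comp_appLE, appLE_congr (XAincl_snd x B) ⊤ U.1 _ (fun _ _ => trivial),
      Scheme.Hom.comp_appLE]
    rfl
  have h2 := Scheme.ΓSpecIso_inv_naturality (CommRingCat.ofHom B.res.toRingHom)
  refine (congr($h1 ((Scheme.ΓSpecIso (CommRingCat.of B)).inv b))).trans ?_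
  exact congrArg (x.appLE ⊤ U.1 le_top).hom (congr($h2 b)).symm

theorem pi_comp {A B C : Art k k} (g : A ⟶ B) (h : B ⟶ C) (U : X.affineOpens)
    (a : Γ(XA x A, (W x A U).1)) : pi x h U (pi x g U a) = pi x (g ≫ h) U a := by
  have h1 : (XAmap x g).appLE (W x A U).1 (W x B U).1 (pi_le x g U).le ≫
      (XAmap x h).appLE (W x B U).1 (W x C U).1 (pi_le x h U).le =
      (XAmap x (g ≫ h)).appLE (W x A U).1 (W x C U).1 (pi_le x (g ≫ h) U).le := by
    rw [Scheme.Hom.appLE_comp_appLE]
    exact appLE_congr (XAmap_comp x g h).symm _ _ _ _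
  exact congr($h1 a)

theorem isAffineHom_map {B A : Art k k} (g : B ⟶ A) : IsAffineHom (XAmap x g) :=
  MorphismProperty.of_isPullback (P := @IsAffineHom) (isPullback_XAmap x g).flip inferInstance

/-- The reduction of a closed subscheme on an affine open. -/
def qI {B : Art k k} (I : (XA x B).IdealSheafData) (h : I.comap (XAincl x B) = I₀) (U : X.affineOpens) :
    Γ(XA x B, (W x B U).1) ⧸ I.ideal (W x B U) →+* Γ(X, U.1) ⧸ I₀.ideal U :=
  Ideal.quotientMap _ (rho x B U) (Ideal.map_le_iff_le_comap.1 (by rw [← comap_incl_ideal, h]))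

/-- A point of the local Hilbert functor is a deformation on every affine open. -/
theorem isDef_of_mem {B : Art k k} (I : (XA x B).IdealSheafData) (hf : FlatOver X x B I)
    (h : I.comap (XAincl x B) = I₀) (U : X.affineOpens) :
    IsDef B (c₀ x I₀ U) ((Ideal.Quotient.mk (I.ideal (W x B U))).comp (c x B U)) (qI x I₀ I h U) where
  flat := flat_quotient x I hf U
  surjective := Ideal.quotientMap_surjective (rho_spec x B U).1
  comm b := congrArg (Ideal.Quotient.mk (I₀.ideal U)) (rho_c x B U b)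
  ker_le := by
    intro z hz
    obtain ⟨z, rfl⟩ := Ideal.Quotient.mk_surjective z
    have hz' : rho x B U z ∈ (I.ideal (W x B U)).map (rho x B U) := by
      rw [← comap_incl_ideal, h]
      exact Ideal.Quotient.eq_zero_iff_mem.1 hz
    obtain ⟨i, hi, hiz⟩ := (Ideal.mem_map_iff_of_surjective _ (rho_spec x B U).1).1 hz'
    rw [← Ideal.map_map, show Ideal.Quotient.mk (I.ideal (W x B U)) z = Ideal.Quotient.mk _ (z - i) from
      (Ideal.Quotient.eq.2 (by simpa using hi))]
    refine Ideal.mem_map_of_mem _ ?_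
    rw [← (rho_spec x B U).2, RingHom.mem_ker, map_sub, hiz, sub_self]

variable {x I₀}

/-- Two comparable points are equal. -/
theorem eq_of_le {B : Art k k} {I J : (XA x B).IdealSheafData} (hfI : FlatOver X x B I)
    (hI : I.comap (XAincl x B) = I₀) (hfJ : FlatOver X x B J) (hJ : J.comap (XAincl x B) = I₀)
    (hle : ∀ U, I.ideal (W x B U) ≤ J.ideal (W x B U)) : I = J := ext_ideal x fun U => by
  refine le_antisymm (hle U) fun a ha => ?_
  have hb := (isDef_of_mem x I₀ I hfI hI U).bijective (isDef_of_mem x I₀ J hfJ hJ U)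
    (Ideal.Quotient.factor (hle U)) (fun _ => Ideal.Quotient.factor_mk _ _) fun r => by
      obtain ⟨r, rfl⟩ := Ideal.Quotient.mk_surjective r
      rfl
  rw [← Ideal.Quotient.eq_zero_iff_mem]
  exact hb.1 ((Ideal.Quotient.factor_mk _ _).trans
    ((Ideal.Quotient.eq_zero_iff_mem.2 ha).trans (map_zero _).symm))

variable (x I₀) in
/-- The candidate pushout of two closed subschemes. -/
def push {B A' A'' : Art k k} (p' : B ⟶ A') (p'' : B ⟶ A'') (I' : (XA x A').IdealSheafData)
    (I'' : (XA x A'').IdealSheafData) : (XA x B).IdealSheafData :=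
  I'.map (XAmap x p') ⊓ I''.map (XAmap x p'')

theorem mem_push {B A' A'' : Art k k} (p' : B ⟶ A') (p'' : B ⟶ A'') (I' : (XA x A').IdealSheafData)
    (I'' : (XA x A'').IdealSheafData) (U : X.affineOpens) (a : Γ(XA x B, (W x B U).1)) :
    a ∈ (push x p' p'' I' I'').ideal (W x B U) ↔
      pi x p' U a ∈ I'.ideal (W x A' U) ∧ pi x p'' U a ∈ I''.ideal (W x A'' U) := by
  have := isAffineHom_map x p'
  have := isAffineHom_map x p''
  rw [push, Scheme.IdealSheafData.ideal_inf, Pi.inf_apply, Submodule.mem_inf,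
    mem_map_iff (XAmap x p') I' (W x B U) (W x A' U) (pi_le x p' U) (pi_le x p' U).le,
    mem_map_iff (XAmap x p'') I'' (W x B U) (W x A'' U) (pi_le x p'' U) (pi_le x p'' U).le]
  rfl

variable {B A A' A'' : Art k k} {p' : B ⟶ A'} {p'' : B ⟶ A''} {f' : A' ⟶ A} {f'' : A'' ⟶ A}

theorem push_spec (h : IsFibreProd p' p'' f' f'') (hf : Function.Surjective f'')
    (I' : (localHilb X x I₀).obj A') (I'' : (localHilb X x I₀).obj A'')
    (hA : I'.1.comap (XAmap x f') = I''.1.comap (XAmap x f'')) :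
    FlatOver X x B (push x p' p'' I'.1 I''.1) ∧ (push x p' p'' I'.1 I''.1).comap (XAincl x B) = I₀ := by
  let J := I'.1.comap (XAmap x f')
  have hJ₀ : J.comap (XAincl x A) = I₀ := by
    rw [← Scheme.IdealSheafData.comap_comp, XAincl_XAmap, I'.2.2]
  have hJf : FlatOver X x A J := flatOver_comap X x f' I'.1 I'.2.1
  have key : ∀ U, ((Ideal.Quotient.mk ((push x p' p'' I'.1 I''.1).ideal (W x B U))).comp (c x B U)).Flat ∧
      ((push x p' p'' I'.1 I''.1).ideal (W x B U)).map (rho x B U) = I₀.ideal U := by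
    intro U
    let R' := Γ(XA x A', (W x A' U).1) ⧸ I'.1.ideal (W x A' U)
    let R'' := Γ(XA x A'', (W x A'' U).1) ⧸ I''.1.ideal (W x A'' U)
    let φ' : R' →+* Γ(XA x A, (W x A U).1) ⧸ J.ideal (W x A U) :=
      Ideal.quotientMap _ (pi x f' U) (Ideal.map_le_iff_le_comap.1 (comap_map_ideal x f' I'.1 U).ge)
    let φ'' : R'' →+* Γ(XA x A, (W x A U).1) ⧸ J.ideal (W x A U) :=
      Ideal.quotientMap _ (pi x f'' U) (Ideal.map_le_iff_le_comap.1
        (le_of_le_of_eq (comap_map_ideal x f'' I''.1 U).ge (congrArg (fun K => K.ideal (W x A U)) hA.symm)))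
    let ψ' : Γ(XA x B, (W x B U).1) →+* R' := (Ideal.Quotient.mk _).comp (pi x p' U)
    let ψ'' : Γ(XA x B, (W x B U).1) →+* R'' := (Ideal.Quotient.mk _).comp (pi x p'' U)
    let ψ : Γ(XA x B, (W x B U).1) →+* fibRing φ' φ'' := (ψ'.prod ψ'').codRestrict _ fun a => by
      show Ideal.Quotient.mk _ (pi x f' U (pi x p' U a)) = Ideal.Quotient.mk _ (pi x f'' U (pi x p'' U a))
      rw [pi_comp, pi_comp, h.w]
    let b : B →+* fibRing φ' φ'' := ψ.comp (c x B U)
    let q : fibRing φ' φ'' →+* Γ(X, U.1) ⧸ I₀.ideal U :=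
      (qI x I₀ I'.1 I'.2.2 U).comp ((RingHom.fst R' R'').comp (fibRing φ' φ'').subtype)
    have hd : IsDef B (c₀ x I₀ U) b q := by
      refine isDef_fib h hf (isDef_of_mem x I₀ J hJf hJ₀ U) (isDef_of_mem x I₀ I'.1 I'.2.1 I'.2.2 U)
        (isDef_of_mem x I₀ I''.1 I''.2.1 I''.2.2 U) (φ' := φ') (φ'' := φ'')
        (fun t => congrArg (Ideal.Quotient.mk _) (pi_c x f' U t))
        (fun t => congrArg (Ideal.Quotient.mk _) (pi_c x f'' U t))
        (fun r => ?_) (fun r => ?_) (fun t => congrArg (Ideal.Quotient.mk _) (pi_c x p' U t))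
        (fun t => congrArg (Ideal.Quotient.mk _) (pi_c x p'' U t))
      · obtain ⟨r, rfl⟩ := Ideal.Quotient.mk_surjective r
        exact congrArg (Ideal.Quotient.mk _) (rho_pi x f' U r)
      · obtain ⟨r, rfl⟩ := Ideal.Quotient.mk_surjective r
        exact congrArg (Ideal.Quotient.mk _) (rho_pi x f'' U r)
    have hqψ : ∀ a, q (ψ a) = Ideal.Quotient.mk (I₀.ideal U) (rho x B U a) := fun a =>
      congrArg (Ideal.Quotient.mk _) (rho_pi x p' U a)
    have hψ : Function.Surjective ψ := by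
      let _ := b.toAlgebra
      let _ := (c x B U).toAlgebra
      let ψA : Γ(XA x B, (W x B U).1) →ₐ[B] fibRing φ' φ'' := { ψ with commutes' := fun _ => rfl }
      obtain ⟨n, hn⟩ := (isArtinianRing_iff_isNilpotent_maximalIdeal B).1 inferInstance
      refine LinearMap.range_eq_top.1 (eq_top_of_sup_smul (IsLocalRing.maximalIdeal B) hn
        (LinearMap.range ψA.toLinearMap) fun r _ => ?_)
      obtain ⟨w, hw⟩ := Ideal.Quotient.mk_surjective (q r)
      obtain ⟨a, ha⟩ := (rho_spec x B U).1 w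
      refine Submodule.mem_sup.2 ⟨ψ a, ⟨a, rfl⟩, r - ψ a, ?_, add_sub_cancel _ _⟩
      rw [Ideal.smul_top_eq_map, Submodule.restrictScalars_mem]
      exact hd.ker_le (by rw [RingHom.mem_ker, map_sub, hqψ, ha, hw, sub_self])
    have hker : RingHom.ker ψ = (push x p' p'' I'.1 I''.1).ideal (W x B U) := by
      ext a
      rw [RingHom.mem_ker, mem_push, ← Ideal.Quotient.eq_zero_iff_mem, ← Ideal.Quotient.eq_zero_iff_mem]
      exact Subtype.ext_iff.trans Prod.ext_iff
    refine ⟨?_, le_antisymm (Ideal.map_le_iff_le_comap.2 fun a ha => ?_) fun w hw => ?_⟩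
    · let e := (Ideal.quotEquivOfEq hker.symm).trans (RingHom.quotientKerEquivOfSurjective hψ)
      convert hd.flat.comp (RingHom.Flat.of_bijective (f := e.symm.toRingHom) e.symm.bijective) using 1
      refine RingHom.ext fun t => e.injective ?_
      simp [e, b]
    · rw [Ideal.mem_comap, ← rho_pi x p' U, ← I'.2.2, comap_incl_ideal]
      exact Ideal.mem_map_of_mem _ ((mem_push p' p'' I'.1 I''.1 U a).1 ha).1
    · obtain ⟨a, rfl⟩ := (rho_spec x B U).1 w
      have ha : ψ a ∈ ((IsLocalRing.maximalIdeal B).map (c x B U)).map ψ := by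
        rw [Ideal.map_map]
        exact hd.ker_le (by rw [RingHom.mem_ker, hqψ]; exact Ideal.Quotient.eq_zero_iff_mem.2 hw)
      obtain ⟨m, hm, hma⟩ := (Ideal.mem_map_iff_of_surjective _ hψ).1 ha
      rw [← (rho_spec x B U).2, RingHom.mem_ker] at hm
      rw [show rho x B U a = rho x B U (a - m) by rw [map_sub, hm, sub_zero]]
      refine Ideal.mem_map_of_mem _ ?_
      rw [← hker, RingHom.mem_ker, map_sub, hma, sub_self]
  refine ⟨HilbIdeal.flat_of_ideals _ fun U => (key U).1, Scheme.IdealSheafData.ext ?_⟩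
  funext U
  rw [comap_incl_ideal, (key U).2]

theorem bijective_cmp (h : IsFibreProd p' p'' f' f'') (hf : Function.Surjective f'') :
    Function.Bijective (cmp (localHilb X x I₀) h) := by
  constructor
  · intro I₁ I₂ e
    have e' : I₁.1.comap (XAmap x p') = I₂.1.comap (XAmap x p') :=
      congrArg (fun t => t.1.1.1) e
    have e'' : I₁.1.comap (XAmap x p'') = I₂.1.comap (XAmap x p'') :=
      congrArg (fun t => t.1.2.1) e
    let I' : (localHilb X x I₀).obj A' := (localHilb X x I₀).map p' I₁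
    let I'' : (localHilb X x I₀).obj A'' := (localHilb X x I₀).map p'' I₁
    obtain ⟨hKf, hK₀⟩ := push_spec h hf I' I'' (congrArg Subtype.val (cmp (localHilb X x I₀) h I₁).2)
    have key : ∀ I : (localHilb X x I₀).obj B, I.1.comap (XAmap x p') = I'.1 →
        I.1.comap (XAmap x p'') = I''.1 → I.1 = push x p' p'' I'.1 I''.1 := fun I h₁ h₂ =>
      eq_of_le I.2.1 I.2.2 hKf hK₀ fun U a ha => (mem_push _ _ _ _ U a).2
        ⟨by rw [← h₁, comap_map_ideal]; exact Ideal.mem_map_of_mem _ ha,
         by rw [← h₂, comap_map_ideal]; exact Ideal.mem_map_of_mem _ ha⟩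
    exact Subtype.ext ((key I₁ rfl rfl).trans (key I₂ e'.symm e''.symm).symm)
  · rintro ⟨⟨I', I''⟩, hI⟩
    obtain ⟨hf₁, h₀⟩ := push_spec h hf I' I'' (congrArg Subtype.val hI)
    let K : (localHilb X x I₀).obj B := ⟨_, hf₁, h₀⟩
    refine ⟨K, Subtype.ext (Prod.ext (Subtype.ext ?_) (Subtype.ext ?_))⟩
    · exact eq_of_le (flatOver_comap X x p' _ hf₁) ((localHilb X x I₀).map p' K).2.2 I'.2.1 I'.2.2
        fun U => by
          change ((push x p' p'' I'.1 I''.1).comap (XAmap x p')).ideal (W x _ U) ≤ I'.1.ideal (W x _ U)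
          rw [comap_map_ideal, Ideal.map_le_iff_le_comap]
          exact fun a ha => ((mem_push _ _ _ _ U a).1 ha).1
    · exact eq_of_le (flatOver_comap X x p'' _ hf₁) ((localHilb X x I₀).map p'' K).2.2 I''.2.1 I''.2.2
        fun U => by
          change ((push x p' p'' I'.1 I''.1).comap (XAmap x p'')).ideal (W x _ U) ≤ I''.1.ideal (W x _ U)
          rw [comap_map_ideal, Ideal.map_le_iff_le_comap]
          exact fun a ha => ((mem_push _ _ _ _ U a).1 ha).2

theorem h0_localHilb : H0 (localHilb X x I₀) := by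
  have hbot : IsLocalRing.maximalIdeal (Art.base k k) = ⊥ :=
    IsLocalRing.eq_maximalIdeal (Ideal.bot_isMaximal (K := k)) |>.symm
  have hb : ∀ U, Function.Bijective (rho x (Art.base k k) U) := fun U =>
    ⟨(RingHom.injective_iff_ker_eq_bot _).2 (by rw [(rho_spec x _ U).2, hbot, Ideal.map_bot]),
      (rho_spec x _ U).1⟩
  have := isAffineHom_incl x (Art.base k k)
  have hI : ∀ U, ((I₀.map (XAincl x (Art.base k k))).ideal (W x _ U)) = (I₀.ideal U).comap (rho x _ U) :=
    fun U => Ideal.ext fun a =>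
      mem_map_iff (XAincl x (Art.base k k)) I₀ (W x _ U) U (rho_le x _ U) (rho_le x _ U).le a
  refine ⟨⟨⟨I₀.map (XAincl x (Art.base k k)), HilbIdeal.flat_of_ideals _ fun U => ?_,
    Scheme.IdealSheafData.ext (funext fun U => ?_)⟩⟩, ⟨fun I J => Subtype.ext (ext_ideal x fun U => ?_)⟩⟩
  · let R := Γ(XA x (Art.base k k), (W x (Art.base k k) U).1) ⧸ (I₀.map (XAincl x (Art.base k k))).ideal (W x _ U)
    let φ : k →+* R := (Ideal.Quotient.mk _).comp (c x (Art.base k k) U)
    let _ : Algebra k R := φ.toAlgebra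
    exact (RingHom.flat_algebraMap_iff.2 (inferInstance : Module.Flat k R) :)
  · rw [comap_incl_ideal, hI, Ideal.map_comap_of_surjective _ (hb U).2]
  · rw [← Ideal.comap_map_of_bijective _ (hb U) (I := I.1.ideal _),
      ← Ideal.comap_map_of_bijective _ (hb U) (I := J.1.ideal _), ← comap_incl_ideal, ← comap_incl_ideal,
      I.2.2, J.2.2]

end Groth.Agent.H9Hilb
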