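import Groth.Agent.H9Hilb.Smooth
import Groth.Agent.DefGlueLib.Rel
import Groth.Prelude.Def_RegImm

/-! Koszul-regular ideals: relations lift. -/

set_option autoImplicit false
set_option backward.isDefEq.respectTransparency false
set_option backward.isDefEq.respectTransparency.types false

universe u

open CategoryTheory CategoryTheory.Limits AlgebraicGeometry ArtFun ArtFun.Art Opposite

noncomputable section

namespace Groth.Agent.H9Hilb

open Groth.Agent.ArtFunLib Groth.Agent.ArtFunLib.HilbAffine Groth.Agent.ArtFunLib.HilbSit Groth.Agent.DefGlueLib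

variable {k : Type u} [Field k] {X : Scheme.{u}} {x : X ⟶ specPt k} {B : Art k k}

theorem corr_mem_mul_of_trivR (P : (XA x B).IdealSheafData) {U : X.affineOpens} {n : ℕ} {f : Fin n → Γ(X, U.1)}
    {F : Fin n → Γ(XA x B, (W x B U).1)} (hF : ∀ j, F j ∈ P.ideal (W x B U)) (hρ : ∀ j, rho x B U (F j) = f j)
    {r : Fin n → Γ(X, U.1)} (h : r ∈ trivR f) :
    corr F r ∈ (IsLocalRing.maximalIdeal B).map (c x B U) * P.ideal (W x B U) := by
  rw [trivR] at h
  induction h using Submodule.span_induction with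
  | mem u hu =>
    obtain ⟨⟨a, b⟩, rfl⟩ := hu
    have hc : corr F (f b • Pi.single a (1 : Γ(X, U.1)) - f a • Pi.single b (1 : Γ(X, U.1))) =
        (fstPull x B U (f b) - F b) * F a - (fstPull x B U (f a) - F a) * F b := by
      simp only [corr, Pi.sub_apply, Pi.smul_apply, smul_eq_mul, map_sub, map_mul, sub_mul, Finset.sum_sub_distrib]
      simp [Pi.single_apply, apply_ite (fstPull x B U), mul_comm (F a) (F b)]
    rw [hc]
    have hk : ∀ l, fstPull x B U (f l) - F l ∈ (IsLocalRing.maximalIdeal B).map (c x B U) := fun l => by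
      rw [← (rho_spec x B U).2, RingHom.mem_ker, map_sub, rho_fst, hρ, sub_self]
    exact sub_mem (Ideal.mul_mem_mul (hk b) (hF a)) (Ideal.mul_mem_mul (hk a) (hF b))
  | zero => simp [corr]
  | add u u' _ _ hu hu' => rw [corr_add]; exact add_mem hu hu'
  | smul a u _ hu => rw [corr_smul]; exact Ideal.mul_mem_left _ _ hu

theorem locLifts_of_koszul {I₀ : X.IdealSheafData}
    (hlci : RegImm.IsRegularIdeal RegImm.Kind.koszul I₀) : LocLifts x I₀ := by
  intro B A p hp IA P hP y
  obtain ⟨U, hyU, rs, hrs, hI⟩ := hlci (I₀.subschemeι y) (I₀.range_subschemeι.le ⟨y, rfl⟩)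
  have hI' : Ideal.span (Set.range fun j : Fin rs.length => rs[j]) = I₀.ideal U :=
    (span_range_getElem rs).trans hI.symm
  have h0 : (P.ideal (W x B U)).map (rho x B U) = I₀.ideal U := by
    rw [hP, show rho x B U = (rho x A U).comp (pi x p U) from RingHom.ext fun a => (rho_pi x p _ a).symm,
      ← Ideal.map_map, Ideal.map_comap_of_surjective _ (pi_spec x p hp _).1, ← comap_incl_ideal, IA.2.2]
  have hF : ∀ j : Fin rs.length, ∃ e, e ∈ P.ideal (W x B U) ∧ rho x B U e = rs[j] := fun j => by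
    have h1 : rs[j] ∈ I₀.ideal U := hI' ▸ Ideal.subset_span ⟨j, rfl⟩
    rw [← h0] at h1
    obtain ⟨e, he, h2⟩ := (Ideal.mem_map_iff_of_surjective _ (rho_spec x B _).1).1 h1
    exact ⟨e, he, h2⟩
  choose F hFP hFρ using hF
  exact ⟨U, hyU, _, _, F, hI', hFP, hFρ, fun r hr =>
    corr_mem_mul_of_trivR P hFP hFρ (mem_trivR_of_isKoszulRegularSeq hrs (by rw [dot_apply]; exact hr))⟩

end Groth.Agent.H9Hilb
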