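import Groth.Agent.ArtFunLib.HilbIdeal
import Groth.Agent.DefGlueLib.Rel
import Mathlib.RingTheory.Regular.Flat

/-! Local extension of a morphism prescribed on the kernel of the restriction to the closed fibre. -/

set_option autoImplicit false
set_option backward.isDefEq.respectTransparency false
set_option backward.isDefEq.respectTransparency.types false

universe u

open CategoryTheory CategoryTheory.Limits AlgebraicGeometry ArtFun ArtFun.Art Opposite

noncomputable section

namespace Groth.Agent.H9Hilb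

open Groth.Agent.ArtFunLib Groth.Agent.ArtFunLib.HilbAffine Groth.Agent.ArtFunLib.HilbSit
  Groth.Agent.ArtFunLib.HilbMod Groth.Agent.DefGlueLib

/-- The relations of a regular sequence are generated by the trivial ones. -/
theorem mem_trivR_of_regular {A : Type u} [CommRing A] {n : ℕ} (f : Fin n → A)
    (h : ∀ i, ∀ a : A, a * f i ∈ Ideal.span (f '' Set.Iio i) → a ∈ Ideal.span (f '' Set.Iio i))
    (u : Fin n → A) (hu : ∑ j, u j * f j = 0) : u ∈ trivR f := by
  classical
  suffices H : ∀ m ≤ n, ∀ u : Fin n → A, ∑ j, u j * f j = 0 → (∀ i : Fin n, m ≤ i.1 → u i = 0) → u ∈ trivR f from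
    H n le_rfl u hu fun i hi => absurd i.2 (not_lt.2 hi)
  intro m
  induction m with
  | zero =>
    intro _ u _ hz
    rw [show u = 0 from funext fun i => hz i (Nat.zero_le _)]
    exact zero_mem _
  | succ m ih =>
    intro hm u hu hz
    let i : Fin n := ⟨m, hm⟩
    have h1 : u i * f i ∈ Ideal.span (f '' Set.Iio i) := by
      rw [← Finset.add_sum_erase _ _ (Finset.mem_univ i)] at hu
      rw [eq_neg_of_add_eq_zero_left hu]
      refine neg_mem (sum_mem fun j hj => ?_)
      rcases lt_or_ge j i with hlt | hge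
      · exact Ideal.mul_mem_left _ _ (Ideal.subset_span ⟨j, hlt, rfl⟩)
      · rw [hz j (by have := Fin.val_ne_of_ne (Finset.ne_of_mem_erase hj); have : i.1 ≤ j.1 := hge; simp only [i] at *; omega), zero_mul]
        exact zero_mem _
    obtain ⟨c, hc⟩ := Finsupp.mem_ideal_span_range_iff_exists_finsupp.1
      (show u i ∈ Ideal.span (Set.range fun j : Set.Iio i => f j.1) by
        convert h i _ h1 using 2
        exact (Set.image_eq_range f (Set.Iio i)).symm)
    let τ : Fin n → A := ∑ j : Set.Iio i, c j • (f j.1 • Pi.single i (1 : A) - f i • Pi.single j.1 (1 : A))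
    have hτ : τ ∈ trivR f := sum_mem fun j _ => Submodule.smul_mem _ _ (Submodule.subset_span ⟨(i, j.1), rfl⟩)
    have hτi : τ i = u i := by
      rw [← hc, Finsupp.sum_fintype _ _ (fun _ => zero_mul _)]
      simp only [τ, Finset.sum_apply, Pi.smul_apply, Pi.sub_apply, smul_eq_mul, Pi.single_eq_same]
      refine Finset.sum_congr rfl fun j _ => ?_
      rw [Pi.single_eq_of_ne (ne_of_gt (show j.1 < i from j.2))]
      ring
    have hτz : ∀ l : Fin n, m + 1 ≤ l.1 → τ l = 0 := fun l hl => by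
      simp only [τ, Finset.sum_apply, Pi.smul_apply, Pi.sub_apply, smul_eq_mul]
      refine Finset.sum_eq_zero fun j _ => ?_
      have hj : j.1.1 < m := j.2
      rw [Pi.single_eq_of_ne (Fin.ne_of_val_ne (show l.1 ≠ m by omega)),
        Pi.single_eq_of_ne (Fin.ne_of_val_ne (show l.1 ≠ j.1.1 by omega))]
      ring
    have h2 := dot_eq_zero_of_mem_trivR f hτ
    rw [dot_apply] at h2
    have h3 : u - τ ∈ trivR f := ih (Nat.le_of_succ_le hm) (u - τ) (by
        simp only [Pi.sub_apply, sub_mul, Finset.sum_sub_distrib, hu, h2, sub_zero]) fun l hl => by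
      rcases Nat.lt_or_ge m l.1 with hlt | hge
      · rw [Pi.sub_apply, hτz l hlt, hz l hlt, sub_zero]
      · obtain rfl : l = i := Fin.ext (le_antisymm hge hl)
        rw [Pi.sub_apply, hτi, sub_self]
    simpa using add_mem h3 hτ

theorem regular_fin {A : Type u} [CommRing A] {rs : List A} (h : RingTheory.Sequence.IsWeaklyRegular A rs) :
    ∀ i : Fin rs.length, ∀ a : A, a * rs[i] ∈ Ideal.span ((fun j : Fin rs.length => rs[j]) '' Set.Iio i) →
      a ∈ Ideal.span ((fun j : Fin rs.length => rs[j]) '' Set.Iio i) := by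
  intro i a ha
  have hs : Ideal.span ((fun j : Fin rs.length => rs[j]) '' Set.Iio i) =
      Ideal.ofList (rs.take i.1) • (⊤ : Submodule A A) := by
    rw [Ideal.smul_eq_mul, Ideal.mul_top, Ideal.ofList]
    congr 1
    ext x
    constructor
    · rintro ⟨j, hj, rfl⟩
      exact List.mem_take_iff_getElem.2 ⟨j.1, lt_min hj j.2, rfl⟩
    · intro hx
      obtain ⟨j, hj, rfl⟩ := List.mem_take_iff_getElem.1 hx
      exact ⟨⟨j, lt_of_lt_of_le hj (min_le_right _ _)⟩, Fin.lt_def.2 (lt_of_lt_of_le hj (min_le_left _ _)), rfl⟩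
  rw [hs] at ha ⊢
  rw [← Submodule.Quotient.mk_eq_zero]
  refine h.regular_mod_prev i.1 i.2 ?_
  simp only [smul_zero]
  rw [ ← Submodule.Quotient.mk_smul, Submodule.Quotient.mk_eq_zero]
  show rs[i.1] * a ∈ _
  rw [mul_comm]
  exact ha

variable {k : Type u} [Field k] {X : Scheme.{u}} {x : X ⟶ specPt k} {B : Art k k}

variable (P : (XA x B).IdealSheafData) (I₀ : X.IdealSheafData) (t : B)

/-- `v` is the value of `e ∈ mP + tR`. -/
def Val (U : X.affineOpens) (e : Γ(XA x B, (W x B U).1)) (v : Γ(ClSub.quotMod I₀, U.1)) : Prop :=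
  ∃ μ z, μ ∈ (IsLocalRing.maximalIdeal B).map (c x B U) * P.ideal (W x B U) ∧
    e = μ + c x B U t * z ∧ v = I₀.subschemeι.app U.1 (rho x B U z)

variable {P I₀ t}
variable (hrep : ∀ U e, e ∈ P.ideal (W x B U) → rho x B U e = 0 → ∃ μ z,
    μ ∈ (IsLocalRing.maximalIdeal B).map (c x B U) * P.ideal (W x B U) ∧ e = μ + c x B U t * z)
  (hzero : ∀ U z, c x B U t * z ∈ (IsLocalRing.maximalIdeal B).map (c x B U) * P.ideal (W x B U) →
    I₀.subschemeι.app U.1 (rho x B U z) = 0)

theorem Val.add {U : X.affineOpens} {e e' v v'} (h : Val P I₀ t U e v) (h' : Val P I₀ t U e' v') :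
    Val P I₀ t U (e + e') (v + v') := by
  obtain ⟨μ, z, hμ, rfl, rfl⟩ := h
  obtain ⟨μ', z', hμ', rfl, rfl⟩ := h'
  refine ⟨μ + μ', z + z', add_mem hμ hμ', by ring, ?_⟩
  rw [map_add]
  exact (map_add (I₀.subschemeι.app U.1).hom _ _).symm

theorem Val.mul {U : X.affineOpens} {e v} (R : Γ(XA x B, (W x B U).1)) (h : Val P I₀ t U e v) :
    Val P I₀ t U (R * e) (rho x B U R • v) := by
  obtain ⟨μ, z, hμ, rfl, rfl⟩ := h
  refine ⟨R * μ, R * z, Ideal.mul_mem_left _ _ hμ, by ring, ?_⟩
  rw [map_mul]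
  exact (map_mul (I₀.subschemeι.app U.1).hom _ _).symm

theorem Val.smul {U : X.affineOpens} {e v} (r : Γ(X, U.1)) (h : Val P I₀ t U e v) :
    Val P I₀ t U (fstPull x B U r * e) (r • v) := by
  simpa only [rho_fst] using h.mul (fstPull x B U r)

theorem val_of_mem {U : X.affineOpens} {μ}
    (hμ : μ ∈ (IsLocalRing.maximalIdeal B).map (c x B U) * P.ideal (W x B U)) : Val P I₀ t U μ 0 := by
  refine ⟨μ, 0, hμ, by ring, ?_⟩
  rw [map_zero]
  exact (map_zero (I₀.subschemeι.app U.1).hom).symm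

include hzero in
theorem Val.unique {U : X.affineOpens} {e v v'} (h : Val P I₀ t U e v) (h' : Val P I₀ t U e v') : v = v' := by
  obtain ⟨μ, z, hμ, rfl, rfl⟩ := h
  obtain ⟨μ', z', hμ', he, rfl⟩ := h'
  rw [← sub_eq_zero]
  show I₀.subschemeι.app U.1 _ - I₀.subschemeι.app U.1 _ = 0
  rw [← map_sub, ← map_sub]
  refine hzero U _ ?_
  rw [show c x B U t * (z - z') = μ' - μ by linear_combination he]
  exact sub_mem hμ' hμ

theorem Val.map {U V : X.affineOpens} (hV : V.1 ≤ U.1) {e v} (h : Val P I₀ t U e v) :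
    Val P I₀ t V ((XA x B).presheaf.map (homOfLE (W_mono x B hV)).op e)
      ((ClSub.quotMod I₀).presheaf.map (homOfLE hV).op v) := by
  obtain ⟨μ, z, hμ, rfl, rfl⟩ := h
  refine ⟨_, (XA x B).presheaf.map (homOfLE (W_mono x B hV)).op z, ?_, by rw [map_add, map_mul, c_map x B hV], ?_⟩
  · have h1 := Ideal.mem_map_of_mem ((XA x B).presheaf.map (homOfLE (W_mono x B hV)).op).hom hμ
    rw [Ideal.map_mul, Ideal.map_map,
      show (((XA x B).presheaf.map (homOfLE (W_mono x B hV)).op).hom).comp (c x B U) = c x B V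
        from RingHom.ext (c_map x B hV)] at h1
    exact Ideal.mul_mono le_rfl (le_of_eq (P.map_ideal (U := W x B V) (V := W x B U) (W_mono x B hV))) h1
  · rw [rho_map x B hV]
    exact (congr($(I₀.subschemeι.naturality (homOfLE hV).op) (rho x B U z))).symm

section Gen

variable {U : X.affineOpens} {n : ℕ} (f : Fin n → Γ(X, U.1)) (F : Fin n → Γ(XA x B, (W x B U).1))

/-- The correction of an element lifting `∑ r j * f j`. -/
def corr (r : Fin n → Γ(X, U.1)) : Γ(XA x B, (W x B U).1) := ∑ j, fstPull x B U (r j) * F j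

theorem corr_add (r r' : Fin n → Γ(X, U.1)) : corr F (r + r') = corr F r + corr F r' := by
  simp [corr, add_mul, Finset.sum_add_distrib]

theorem corr_smul (a : Γ(X, U.1)) (r : Fin n → Γ(X, U.1)) : corr F (a • r) = fstPull x B U a * corr F r := by
  simp [corr, Finset.mul_sum, mul_assoc]

variable (hF : ∀ j, F j ∈ P.ideal (W x B U)) (hρ : ∀ j, rho x B U (F j) = f j)
  (hreg : ∀ i, ∀ a, a * f i ∈ Ideal.span (f '' Set.Iio i) → a ∈ Ideal.span (f '' Set.Iio i))

include hF in
theorem corr_mem (r : Fin n → Γ(X, U.1)) : corr F r ∈ P.ideal (W x B U) :=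
  sum_mem fun j _ => Ideal.mul_mem_left _ _ (hF j)

include hρ in
theorem rho_corr (r : Fin n → Γ(X, U.1)) : rho x B U (corr F r) = ∑ j, r j * f j := by
  simp [corr, map_sum, rho_fst, hρ]

include hF hρ hreg in
theorem corr_mem_mul {r : Fin n → Γ(X, U.1)} (hr : ∑ j, r j * f j = 0) :
    corr F r ∈ (IsLocalRing.maximalIdeal B).map (c x B U) * P.ideal (W x B U) := by
  have h := mem_trivR_of_regular f hreg r hr
  clear hr
  rw [trivR] at h
  induction h using Submodule.span_induction with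
  | mem u hu =>
    obtain ⟨⟨a, b⟩, rfl⟩ := hu
    have hc : corr F (f b • Pi.single a (1 : Γ(X, U.1)) - f a • Pi.single b (1 : Γ(X, U.1))) =
        (fstPull x B U (f b) - F b) * F a - (fstPull x B U (f a) - F a) * F b := by
      simp only [corr, Pi.sub_apply, Pi.smul_apply, smul_eq_mul, map_sub, map_mul, sub_mul, Finset.sum_sub_distrib]
      simp [Pi.single_apply, apply_ite (fstPull x B U), mul_comm (F a) (F b)]
    rw [hc]
    have hk : ∀ l, fstPull x B U (f l) - F l ∈ (IsLocalRing.maximalIdeal B).map (c x B U) := fun l => by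
      rw [← (rho_spec x B U).2, RingHom.mem_ker, map_sub, rho_fst, hρ, sub_self]
    exact sub_mem (Ideal.mul_mem_mul (hk b) (hF a)) (Ideal.mul_mem_mul (hk a) (hF b))
  | zero => simp [corr]
  | add u u' _ _ hu hu' => rw [corr_add]; exact add_mem hu hu'
  | smul a u _ hu => rw [corr_smul]; exact Ideal.mul_mem_left _ _ hu

/-- The relations of the `f j` lift to `m P`. -/
def RelsLift (U : X.affineOpens) {n : ℕ} (f : Fin n → Γ(X, U.1)) (F : Fin n → Γ(XA x B, (W x B U).1))
    (P : (XA x B).IdealSheafData) : Prop :=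
  ∀ r : Fin n → Γ(X, U.1), ∑ j, r j * f j = 0 →
    corr F r ∈ (IsLocalRing.maximalIdeal B).map (c x B U) * P.ideal (W x B U)

/-- `v` is the value at `e ∈ P` of the local extension. -/
def LVal (e : Γ(XA x B, (W x B U).1)) (v : Γ(ClSub.quotMod I₀, U.1)) : Prop :=
  ∃ r : Fin n → Γ(X, U.1), rho x B U e = ∑ j, r j * f j ∧ Val P I₀ t U (e - corr F r) v

include hzero in
theorem LVal.unique (hrel : RelsLift U f F P) {e v v'} (h : LVal (P := P) (I₀ := I₀) (t := t) f F e v)
    (h' : LVal (P := P) (I₀ := I₀) (t := t) f F e v') : v = v' := by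
  obtain ⟨r, hr, hv⟩ := h
  obtain ⟨r', hr', hv'⟩ := h'
  have h0 : Val P I₀ t U (corr F (r' + (-1 : Γ(X, U.1)) • r)) 0 := val_of_mem (hrel _ (by
    simp [add_mul, Finset.sum_add_distrib, ← hr, ← hr']))
  refine hv.unique hzero ?_
  have := hv'.add h0
  rw [add_zero, corr_add, corr_smul, map_neg, map_one] at this
  convert this using 1
  ring

theorem LVal.add {e e' v v'} (h : LVal (P := P) (I₀ := I₀) (t := t) f F e v)
    (h' : LVal (P := P) (I₀ := I₀) (t := t) f F e' v') :
    LVal (P := P) (I₀ := I₀) (t := t) f F (e + e') (v + v') := by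
  obtain ⟨r, hr, hv⟩ := h
  obtain ⟨r', hr', hv'⟩ := h'
  refine ⟨r + r', by simp [map_add, hr, hr', add_mul, Finset.sum_add_distrib], ?_⟩
  rw [corr_add, add_sub_add_comm]
  exact hv.add hv'

theorem LVal.smul {e v} (a : Γ(X, U.1)) (h : LVal (P := P) (I₀ := I₀) (t := t) f F e v) :
    LVal (P := P) (I₀ := I₀) (t := t) f F (fstPull x B U a * e) (a • v) := by
  obtain ⟨r, hr, hv⟩ := h
  refine ⟨a • r, by simp [map_mul, rho_fst, hr, Finset.mul_sum, mul_assoc], ?_⟩
  rw [corr_smul, ← mul_sub]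
  exact hv.smul a

include hrep hF hρ in
theorem exists_lval (hgen : Ideal.span (Set.range f) = I₀.ideal U) (h0 : (P.ideal (W x B U)).map (rho x B U) = I₀.ideal U)
    {e} (he : e ∈ P.ideal (W x B U)) : ∃ v, LVal (P := P) (I₀ := I₀) (t := t) f F e v := by
  have h1 : rho x B U e ∈ Ideal.span (Set.range f) := hgen ▸ h0 ▸ Ideal.mem_map_of_mem _ he
  obtain ⟨r, hr⟩ := Ideal.mem_span_range_iff_exists_fun.1 h1
  obtain ⟨μ, z, hμ, hz⟩ := hrep U (e - corr F r) (sub_mem he (corr_mem F hF r))
    (by rw [map_sub, rho_corr f F hρ, hr, sub_self])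
  exact ⟨_, r, hr.symm, μ, z, hμ, hz, rfl⟩

/-- Restriction of generators. -/
abbrev fV {V : X.affineOpens} (hV : V.1 ≤ U.1) : Fin n → Γ(X, V.1) := fun j => X.presheaf.map (homOfLE hV).op (f j)

/-- Restriction of lifts. -/
abbrev FV {V : X.affineOpens} (hV : V.1 ≤ U.1) : Fin n → Γ(XA x B, (W x B V).1) :=
  fun j => (XA x B).presheaf.map (homOfLE (W_mono x B hV)).op (F j)

end Gen

end Groth.Agent.H9Hilb
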