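import Groth.Agent.H9Hilb.Surj
import Groth.Agent.Algz7.PullbackFormal
import Groth.Agent.AmpleVan.LiftFibre
import Groth.Agent.Lib.PnDualCoh

/-! The tangent space of the local Hilbert functor and the normal sheaf. -/

set_option autoImplicit false
set_option backward.isDefEq.respectTransparency false
set_option backward.isDefEq.respectTransparency.types false

universe u

open CategoryTheory CategoryTheory.Limits AlgebraicGeometry ArtFun ArtFun.Art Opposite TrivSqZeroExt

noncomputable section

namespace Groth.Agent.H9Hilb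

open Groth.Agent.ArtFunLib Groth.Agent.ArtFunLib.HilbAffine Groth.Agent.ArtFunLib.HilbSit
open Groth.Agent.H9DefAut (eps)

variable {k : Type u} [Field k] {X : Scheme.{u}} [X.Over (Spec (CommRingCat.of k))] {I₀ : X.IdealSheafData}

local notation "x₀" => (X ↘ Spec (CommRingCat.of k))

theorem exists_linearEquiv_hom [T : TangentStr (localHilb X x₀ I₀)] :
    Nonempty (TangentSpace (localHilb X x₀ I₀) ≃ₗ[k] (ClSub.idealMod I₀ ⟶ ClSub.quotMod I₀)) := by
  have h0 : H0 (localHilb X x₀ I₀) := h0_localHilb
  have heps : Heps (localHilb X x₀ I₀) := fun _ _ _ _ h => bijective_cmp h (Art.dual k k).res_surjective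
  let L : TangentSpace (localHilb X x₀ I₀) →ₗ[k] (ClSub.idealMod I₀ ⟶ ClSub.quotMod I₀) :=
    { toFun := fun t => theta x₀ I₀ t.val
      map_add' := fun s t => by
        obtain ⟨z, hz₁, hz₂⟩ : ∃ z : (localHilb X x₀ I₀).obj (Art.dual2 k k),
            (localHilb X x₀ I₀).map Art.pr₁ z = s.val ∧ (localHilb X x₀ I₀).map Art.pr₂ z = t.val := by
          obtain ⟨z, hz⟩ := (heps _ _ Art.isFibreProd_dual2).2
            ⟨(s.val, t.val), h0.2.elim _ _⟩
          exact ⟨z, congrArg (fun w => w.1.1) hz, congrArg (fun w => w.1.2) hz⟩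
        have h := theta_add z
        rw [hz₁, hz₂] at h
        refine Eq.trans (congrArg (theta x₀ I₀) ?_) h
        have h' := T.add_eq z
        rw [hz₁, hz₂] at h'
        exact h'
      map_smul' := fun a t => by
        refine ext_hom fun U s => ?_
        rw [RingHom.id_apply, KLin.smul_app_apply]
        refine Eq.trans ?_ (congrArg (· • (theta x₀ I₀ t.val).app U.1 s) (cst_eq U a))
        exact (congrArg (fun w => (theta x₀ I₀ w).app U.1 s) (T.smul_eq a t.val)).trans
          (theta_smul t.val a U s) }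
  refine ⟨LinearEquiv.ofBijective L ⟨fun s t h => ?_, fun δ => ?_⟩⟩
  · exact theta_injective h
  · obtain ⟨I, hI⟩ := theta_surjective (x := x₀) δ
    exact ⟨I, hI⟩

/-- The adjunction between pull-back and direct image is linear. -/
theorem exists_adj_linearEquiv {Y : Scheme.{u}} [Y.Over (Spec (CommRingCat.of k))] (i : Y ⟶ X)
    (hi : i ≫ x₀ = Y ↘ Spec (CommRingCat.of k)) (M : X.Modules) (N : Y.Modules) :
    Nonempty (((Scheme.Modules.pullback i).obj M ⟶ N) ≃ₗ[k] (M ⟶ (Scheme.Modules.pushforward i).obj N)) :=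
  ⟨{ (Scheme.Modules.pullbackPushforwardAdjunction i).homEquiv M N with
      map_add' := fun f g => by
        have : (Scheme.Modules.pullback i).Additive :=
          (Scheme.Modules.pullbackPushforwardAdjunction i).left_adjoint_additive
        show (Scheme.Modules.pullbackPushforwardAdjunction i).homEquiv M N (f + g) = _ + _
        exact ((Scheme.Modules.pullbackPushforwardAdjunction i).homAddEquiv M N).map_add f g
      map_smul' := fun a f => by
        show (Scheme.Modules.pullbackPushforwardAdjunction i).homEquiv M N (Formal.smulMod k _ a ≫ f) =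
          Formal.smulMod k M a ≫ (Scheme.Modules.pullbackPushforwardAdjunction i).homEquiv M N f
        rw [← Groth.Agent.Algz7.pullback_smulMod i hi, Adjunction.homEquiv_naturality_left] }⟩

theorem exists_tangent_HH [I₀.subscheme.Over (Spec (CommRingCat.of k))]
    (hY : I₀.subscheme ↘ Spec (CommRingCat.of k) = I₀.subschemeι ≫ x₀)
    [DCoh.HasSheafHom (Omega.conormal I₀.subschemeι)]
    [TangentStr (localHilb X x₀ I₀)] :
    Nonempty (TangentSpace (localHilb X x₀ I₀) ≃ₗ[k]
      Coh.HH I₀.subscheme ((DCoh.sheafHom (Omega.conormal I₀.subschemeι)).obj (Coh.structureModule I₀.subscheme)) 0) := by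
  obtain ⟨e₁⟩ := exists_linearEquiv_hom (k := k) (X := X) (I₀ := I₀)
  obtain ⟨e₂⟩ := exists_adj_linearEquiv I₀.subschemeι hY.symm (ClSub.idealMod I₀) (Coh.structureModule I₀.subscheme)
  obtain ⟨e₃⟩ := ExtShX.exists_hom_HH0 (A := k)
    ((SheafHomX.hom (Omega.conormal I₀.subschemeι)).obj (Coh.structureModule I₀.subscheme))
  let e := ((Groth.Agent.AmpleVan.sheafHomIso (Omega.conormal I₀.subschemeι)).app
    (Coh.structureModule I₀.subscheme)).symm
  let e₄ : _ ≃ₗ[k] _ := { Canon.HHlin k e.hom 0 with
    invFun := Canon.HHlin k e.inv 0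
    left_inv := fun z => by rw [LinearMap.toFun_eq_coe, Groth.Agent.PnDual.HHlin_comp, e.hom_inv_id, Groth.Agent.PnDual.HHlin_id]
    right_inv := fun z => by rw [LinearMap.toFun_eq_coe, Groth.Agent.PnDual.HHlin_comp, e.inv_hom_id, Groth.Agent.PnDual.HHlin_id] }
  have e₅ : ((Scheme.Modules.pullback I₀.subschemeι).obj (ClSub.idealMod I₀) ⟶ Coh.structureModule I₀.subscheme) ≃ₗ[k]
      (Omega.conormal I₀.subschemeι ⟶ Coh.structureModule I₀.subscheme) := by
    rw [Omega.conormal, I₀.ker_subschemeι]
  exact ⟨(e₁.trans (e₂.symm.trans e₅)).trans (((ExtShX.evLin _ _).symm.trans e₃).trans e₄)⟩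

/-- The direct image of the structure sheaf of a closed immersion is the quotient by its kernel. -/
theorem nonempty_iso_quotMod {Y Z : Scheme.{u}} (i : Z ⟶ Y) [IsClosedImmersion i] :
    Nonempty ((Scheme.Modules.pushforward i).obj (Coh.structureModule Z) ≅ ClSub.quotMod i.ker) := by
  let v : Coh.structureModule i.image ⟶ (Coh.push i.toImage).obj (Coh.structureModule Z) :=
    SheafOfModules.unitToPushforwardObjUnit i.toImage.toRingCatSheafHom
  haveI : IsIso v := Scheme.Modules.Hom.isIso_iff_isIso_app.mpr fun W =>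
    (ConcreteCategory.isIso_iff_bijective _).mpr
      ((ConcreteCategory.isIso_iff_bijective (i.toImage.app W)).mp inferInstance)
  exact ⟨((Scheme.Modules.pushforwardCongr i.toImage_imageι.symm).app _) ≪≫
    ((Scheme.Modules.pushforwardComp i.toImage i.imageι).app _).symm ≪≫ (Coh.push i.imageι).mapIso (asIso v).symm⟩

end Groth.Agent.H9Hilb
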