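import Groth.Agent.AmpleVan.ThickPush
import Groth.Agent.SheafHomX.Main
import Groth.Agent.KFlatLib.Scheme.InnerHom
import Groth.Agent.QCoh.HHExact
import Groth.Agent.QCoh.VanIdeal

import Mathlib.Algebra.Homology.DerivedCategory.Ext.ExactSequences

/-! Extending morphisms to a direct image from a closed subscheme. -/

set_option autoImplicit false
set_option backward.isDefEq.respectTransparency false
set_option backward.isDefEq.respectTransparency.types false

universe u

open CategoryTheory CategoryTheory.Limits AlgebraicGeometry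

noncomputable section

namespace Groth.Agent.H9Hilb

attribute [local instance] HasDerivedCategory.standard

variable {X Y : Scheme.{u}}

/-- Sections of the extension of `C` by the structure sheaf exist. -/
def Splits (C : Y.Modules) : Prop :=
  ∀ (E : Y.Modules) (f : Coh.structureModule Y ⟶ E) (g : E ⟶ C) (w : f ≫ g = 0),
    (ShortComplex.mk f g w).ShortExact →
    (∀ y : Y, ∃ V : Y.Opens, y ∈ V ∧ IsSplitMono ((Scheme.Modules.restrictFunctor V.ι).map f)) →
    ∃ r : E ⟶ Coh.structureModule Y, f ≫ r = 𝟙 _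

theorem splits_of_ext [HasExt.{u} Y.Modules] {C : Y.Modules}
    (h : Subsingleton (Abelian.Ext.{u} C (Coh.structureModule Y) 1)) : Splits C := by
  intro E f g w hS _
  obtain ⟨x₂, hx₂⟩ := Abelian.Ext.contravariant_sequence_exact₁ hS _
    (Abelian.Ext.mk₀ (𝟙 (Coh.structureModule Y))) (add_zero 1) (h.elim _ _)
  obtain ⟨θ, rfl⟩ := (Abelian.Ext.mk₀_bijective _ _).2 x₂
  rw [Abelian.Ext.mk₀_comp_mk₀] at hx₂
  exact ⟨θ, (Abelian.Ext.mk₀_bijective _ _).1 hx₂⟩

theorem restrict_additive (V : Y.Opens) : (Scheme.Modules.restrictFunctor V.ι).Additive :=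
  (Scheme.Modules.restrictAdjunction V.ι).left_adjoint_additive

theorem splits_of_HH {C : Y.Modules}
    (h : Subsingleton (Coh.HH Y ((SheafHomX.hom C).obj (Coh.structureModule Y)) 1)) : Splits C := by
  intro E f g w hS hloc
  choose V hyV hV using hloc
  have hcov : ∀ y : Y, ∃ i : Y, y ∈ Set.range (V i).ι.base := fun y => ⟨y, ⟨⟨y, hyV y⟩, rfl⟩⟩
  have hepi : Epi ((SheafHomX.hom C).map g) := by
    refine Preadditive.epi_of_cancel_zero _ fun {Z} a ha => ?_
    refine SheafHomX.eq_zero_of_restrict (fun i => (V i).ι) hcov a fun i => ?_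
    let R := Scheme.Modules.restrictFunctor (V i).ι
    have : R.Additive := restrict_additive _
    have : R.IsLeftAdjoint := inferInstance
    have : IsSplitMono (R.map f) := hV i
    have hex : ((ShortComplex.mk f g w).map R).Exact :=
      hS.exact.map_of_epi_of_preservesCokernel R hS.epi_g inferInstance
    have : Epi ((ShortComplex.mk f g w).map R).g := by
      have := hS.epi_g
      exact R.map_epi g
    let σ := ShortComplex.Splitting.ofExactOfRetraction _ hex (retraction (R.map f)) (IsSplitMono.id (R.map f)) this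
    let C' := R.obj C
    have h1 : (SheafHomX.hom C').map σ.s ≫ (SheafHomX.hom C').map (R.map g) = 𝟙 _ := by
      rw [← Functor.map_comp, show σ.s ≫ R.map g = 𝟙 _ from σ.s_g, CategoryTheory.Functor.map_id]
    have h2 := SheafHomX.restrict_map (V i).ι C g
    have h3 : R.map ((SheafHomX.hom C).map g) ≫ R.map a = 0 := by rw [← Functor.map_comp, ha, Functor.map_zero]
    have he : Epi (R.map ((SheafHomX.hom C).map g)) := by
      have : IsSplitEpi ((SheafHomX.hom C').map (R.map g)) := ⟨⟨⟨_, h1⟩⟩⟩
      have e : R.map ((SheafHomX.hom C).map g) =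
          (SheafHomX.restrictIso (V i).ι C).hom.app E ≫ (SheafHomX.hom C').map (R.map g) ≫
            inv ((SheafHomX.restrictIso (V i).ι C).hom.app C) := by
        rw [← Category.assoc, IsIso.eq_comp_inv]
        exact h2
      rw [e]
      infer_instance
    exact (cancel_epi (R.map ((SheafHomX.hom C).map g))).1 (h3.trans comp_zero.symm)
  have hT : ((ShortComplex.mk f g w).map (SheafHomX.hom C)).ShortExact := by
    have : (SheafHomX.hom C).IsRightAdjoint := (SheafHomX.adj C).isRightAdjoint
    exact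
      { exact := hS.exact.map_of_mono_of_preservesKernel _ hS.mono_f inferInstance
        mono_f := by
          have := hS.mono_f
          exact (SheafHomX.hom C).map_mono f
        epi_g := hepi }
  obtain ⟨e, he⟩ := QCoh.app_top_surjective_of_HH_one hT h (InvX.one ((SheafHomX.ev C C).symm (𝟙 C)))
  have hy : InvX.ofSect e ≫ (SheafHomX.hom C).map g = (SheafHomX.ev C C).symm (𝟙 C) :=
    SheafHomX.cls_injective (congrArg (Sheaf.H.equiv₀ (Coh.toAb ((SheafHomX.hom C).obj C)) isTerminalTop).symm
      (show ((SheafHomX.hom C).map g).app ⊤ ((InvX.ofSect e).app ⊤ (1 : Γ(Y, ⊤))) = _ by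
        rw [show (InvX.ofSect e).app ⊤ (1 : Γ(Y, ⊤)) = e from InvX.one_ofSect e]
        exact he))
  have hsec : SheafHomX.ev C E (InvX.ofSect e) ≫ g = 𝟙 C := by
    rw [← SheafHomX.ev_naturality, hy, AddEquiv.apply_symm_apply]
  have := hS.mono_f
  let σ := ShortComplex.Splitting.ofExactOfSection _ hS.exact _ hsec this
  exact ⟨σ.r, σ.f_r⟩

theorem exists_extend_of_local (i : Y ⟶ X) [IsClosedImmersion i] {G M : X.Modules} (φ : G ⟶ M) [Epi φ]
    (κ : kernel φ ⟶ (Scheme.Modules.pushforward i).obj (Coh.structureModule Y))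
    (hloc : ∀ y : Y, ∃ U : X.Opens, i y ∈ U ∧
      ∃ θ : (Scheme.Modules.restrictFunctor U.ι).obj G ⟶
          (Scheme.Modules.restrictFunctor U.ι).obj ((Scheme.Modules.pushforward i).obj (Coh.structureModule Y)),
        (Scheme.Modules.restrictFunctor U.ι).map (kernel.ι φ) ≫ θ = (Scheme.Modules.restrictFunctor U.ι).map κ)
    (hsplit : Splits ((Scheme.Modules.pullback i).obj M)) :
    ∃ θ : G ⟶ (Scheme.Modules.pushforward i).obj (Coh.structureModule Y), kernel.ι φ ≫ θ = κ := by
  let O := Coh.structureModule Y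
  let adj := Scheme.Modules.pullbackPushforwardAdjunction i
  have : IsIso (adj.counit.app O) := AmpleVan.isIso_counit i QCoh.isQCoh_structureModule
  let inl : G ⟶ pushout (kernel.ι φ) κ := pushout.inl _ _
  let inr : (Scheme.Modules.pushforward i).obj O ⟶ pushout (kernel.ι φ) κ := pushout.inr _ _
  have hc : kernel.ι φ ≫ inl = κ ≫ inr := pushout.condition
  let π : pushout (kernel.ι φ) κ ⟶ M := pushout.desc φ 0 (by rw [kernel.condition, comp_zero])
  have hπl : inl ≫ π = φ := pushout.inl_desc _ _ _
  have hπr : inr ≫ π = 0 := pushout.inr_desc _ _ _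
  let T : ShortComplex X.Modules := ShortComplex.mk inr π hπr
  have hd : ∀ {Z : X.Modules} (a : pushout (kernel.ι φ) κ ⟶ Z), inr ≫ a = 0 → ∃ d : M ⟶ Z, φ ≫ d = inl ≫ a :=
    fun {Z} a ha => ⟨_, Cofork.IsColimit.π_desc (Abelian.epiIsCokernelOfKernel (f := φ) (KernelFork.ofι (kernel.ι φ) (kernel.condition φ)) (kernelIsKernel φ))
      (t := CokernelCofork.ofπ (inl ≫ a) (show kernel.ι φ ≫ inl ≫ a = 0 by
        rw [← Category.assoc, hc, Category.assoc, ha, comp_zero]))⟩
  choose d hd using @hd
  have hcol : IsColimit (CokernelCofork.ofπ (f := inr) π hπr) := by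
    refine CokernelCofork.IsColimit.ofπ π hπr (fun a ha => d a ha) (fun a ha => ?_) (fun a ha b hb => ?_)
    · refine pushout.hom_ext ?_ ?_
      · rw [← Category.assoc, hπl]
        exact hd a ha
      · rw [← Category.assoc, hπr, zero_comp, ha]
    · refine (cancel_epi φ).1 ((Eq.trans ?_ (hd a ha).symm))
      rw [← hb, ← Category.assoc, hπl]
  have hTe : T.Exact := ShortComplex.exact_of_g_is_cokernel _ hcol
  have hTp : Epi T.g := epi_of_isColimit_cofork hcol
  let P := Scheme.Modules.pullback i
  have : P.IsLeftAdjoint := adj.isLeftAdjoint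
  have : P.Additive := adj.left_adjoint_additive
  have hPe : (T.map P).Exact := hTe.map_of_epi_of_preservesCokernel P hTp inferInstance
  have hPp : Epi (T.map P).g := P.map_epi T.g
  let f : O ⟶ P.obj (pushout (kernel.ι φ) κ) := inv (adj.counit.app O) ≫ P.map inr
  let g : P.obj (pushout (kernel.ι φ) κ) ⟶ P.obj M := P.map π
  have w : f ≫ g = 0 := by
    simp only [f, g, Category.assoc, ← Functor.map_comp, hπr, Functor.map_zero, comp_zero]
  have hloc' : ∀ y : Y, ∃ V : Y.Opens, y ∈ V ∧ IsSplitMono ((Scheme.Modules.restrictFunctor V.ι).map f) := by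
    intro y
    obtain ⟨U, hyU, θ, hθ⟩ := hloc y
    refine ⟨i ⁻¹ᵁ U, hyU, ?_⟩
    let R := Scheme.Modules.restrictFunctor U.ι
    have : R.IsLeftAdjoint := inferInstance
    have hpo : IsPushout (R.map (kernel.ι φ)) (R.map κ) (R.map inl) (R.map inr) :=
      (IsPushout.of_hasPushout (kernel.ι φ) κ).map R
    have hr : IsSplitMono (R.map inr) :=
      ⟨⟨⟨hpo.desc θ (𝟙 _) (by rw [hθ, Category.comp_id]), hpo.inr_desc _ _ _⟩⟩⟩
    let e : P ⋙ Scheme.Modules.restrictFunctor (i ⁻¹ᵁ U).ι ≅ R ⋙ Scheme.Modules.pullback (i ∣_ U) :=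
      Functor.isoWhiskerLeft P (Scheme.Modules.restrictFunctorIsoPullback (i ⁻¹ᵁ U).ι) ≪≫
        Scheme.Modules.pullbackComp (i ⁻¹ᵁ U).ι i ≪≫
        Scheme.Modules.pullbackCongr (morphismRestrict_ι i U).symm ≪≫
        (Scheme.Modules.pullbackComp (i ∣_ U) U.ι).symm ≪≫
        Functor.isoWhiskerRight (Scheme.Modules.restrictFunctorIsoPullback U.ι).symm _
    let R' := Scheme.Modules.restrictFunctor (i ⁻¹ᵁ U).ι
    have h1 : IsSplitMono ((Scheme.Modules.pullback (i ∣_ U)).map (R.map inr)) := inferInstance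
    have h2 : R'.map (P.map inr) = e.hom.app _ ≫ (Scheme.Modules.pullback (i ∣_ U)).map (R.map inr) ≫ e.inv.app _ := by
      rw [← Category.assoc]
      exact (NatIso.naturality_2 e inr).symm.trans (by simp [R', R])
    show IsSplitMono (R'.map (inv (adj.counit.app O) ≫ P.map inr))
    rw [Functor.map_comp, h2]
    infer_instance
  choose V hyV hV using hloc'
  have hf : Mono f := Preadditive.mono_of_cancel_zero _ fun {Z} a ha => by
    refine SheafHomX.eq_zero_of_restrict (fun j => (V j).ι) (fun y => ⟨y, ⟨⟨y, hyV y⟩, rfl⟩⟩) a fun j => ?_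
    have := restrict_additive (V j)
    have := hV j
    exact (cancel_mono ((Scheme.Modules.restrictFunctor (V j).ι).map f)).1
      (by rw [← Functor.map_comp, ha, Functor.map_zero, zero_comp])
  have hS : (ShortComplex.mk f g w).ShortExact :=
    { exact := (ShortComplex.exact_iff_of_iso (ShortComplex.isoMk (S₁ := ShortComplex.mk f g w) (S₂ := T.map P)
        (asIso (adj.counit.app O)).symm (Iso.refl _) (Iso.refl _) (by simp [f, T, P]) (by simp [g, T, P]))).2 hPe
      mono_f := hf
      epi_g := hPp }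
  obtain ⟨r, hr⟩ := hsplit _ f g w hS fun y => ⟨V y, hyV y, hV y⟩
  have hr' : P.map inr ≫ r = adj.counit.app O := by
    simp only [f, Category.assoc, IsIso.inv_comp_eq, Category.comp_id] at hr
    exact hr
  refine ⟨inl ≫ adj.homEquiv _ _ r, ?_⟩
  rw [← Category.assoc, hc, Category.assoc, ← Adjunction.homEquiv_naturality_left, hr']
  rw [Adjunction.homEquiv_unit, adj.right_triangle_components, Category.comp_id]

end Groth.Agent.H9Hilb
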