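import Groth.Agent.H9Hilb.LocVal
import Groth.Agent.H9Hilb.Split
import Groth.Prelude.Def_Omega2
import Groth.Prelude.Def_Mor2

/-! Smoothness of the local Hilbert functor of a regular closed immersion with split obstructions. -/

set_option autoImplicit false
set_option backward.isDefEq.respectTransparency false
set_option backward.isDefEq.respectTransparency.types false

universe u

open CategoryTheory CategoryTheory.Limits AlgebraicGeometry ArtFun ArtFun.Art Opposite

noncomputable section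

namespace Groth.Agent.H9Hilb

open Groth.Agent.ArtFunLib Groth.Agent.ArtFunLib.HilbAffine Groth.Agent.ArtFunLib.HilbSit
  Groth.Agent.ArtFunLib.HilbMod Groth.Agent.ArtFunLib.HilbIdeal

variable {k : Type u} [Field k] {X : Scheme.{u}} {x : X ⟶ specPt k} {B : Art k k}
  {P : (XA x B).IdealSheafData} {I₀ : X.IdealSheafData} {t : B}

theorem exists_local (φ : G P ⟶ ClSub.idealMod I₀) [Epi φ]
    (hφ : ∀ (U : X.affineOpens) s, OmegaSh.idealSect I₀ U.1 (φ.app U.1 s) = rho x B U (el P U s))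
    (h0 : ∀ U, (P.ideal (W x B U)).map (rho x B U) = I₀.ideal U)
    (hrep : ∀ U e, e ∈ P.ideal (W x B U) → rho x B U e = 0 → ∃ μ z,
      μ ∈ (IsLocalRing.maximalIdeal B).map (c x B U) * P.ideal (W x B U) ∧ e = μ + c x B U t * z)
    (hzero : ∀ U z, c x B U t * z ∈ (IsLocalRing.maximalIdeal B).map (c x B U) * P.ideal (W x B U) →
      I₀.subschemeι.app U.1 (rho x B U z) = 0)
    (κ : kernel φ ⟶ ClSub.quotMod I₀)
    (hκ : ∀ (U : X.affineOpens) kk, Val P I₀ t U (el P U ((kernel.ι φ).app U.1 kk)) (κ.app U.1 kk))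
    (U : X.affineOpens) {n : ℕ} (f : Fin n → Γ(X, U.1)) (F : Fin n → Γ(XA x B, (W x B U).1))
    (hgen : Ideal.span (Set.range f) = I₀.ideal U) (hFP : ∀ j, F j ∈ P.ideal (W x B U))
    (hFρ : ∀ j, rho x B U (F j) = f j) (hrel : RelsLift U f F P) :
    ∃ θ : (Scheme.Modules.restrictFunctor U.1.ι).obj (G P) ⟶
        (Scheme.Modules.restrictFunctor U.1.ι).obj (ClSub.quotMod I₀),
      (Scheme.Modules.restrictFunctor U.1.ι).map (kernel.ι φ) ≫ θ = (Scheme.Modules.restrictFunctor U.1.ι).map κ := by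
  have hfst : ∀ {U V : X.affineOpens} (h : V.1 ≤ U.1) (r : Γ(X, U.1)),
      (XA x B).presheaf.map (homOfLE (W_mono x B h)).op (fstPull x B U r) =
        fstPull x B V (X.presheaf.map (homOfLE h).op r) := fun h r =>
    congr($((pullback.fst x (specOver B)).naturality (homOfLE h).op) r).symm
  have hgenV : ∀ (V : X.affineOpens) (hV : V.1 ≤ U.1), Ideal.span (Set.range (fV f hV)) = I₀.ideal V := fun V hV => by
    rw [← I₀.map_ideal (U := V) (V := U) hV, ← hgen, Ideal.map_span, ← Set.range_comp]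
    rfl
  have hFV : ∀ (V : X.affineOpens) (hV : V.1 ≤ U.1) j, FV F hV j ∈ P.ideal (W x B V) ∧
      rho x B V (FV F hV j) = fV f hV j := fun V hV j =>
    ⟨P.map_ideal (U := W x B V) (V := W x B U) (W_mono x B hV) ▸ Ideal.mem_map_of_mem _ (hFP j),
      (rho_map x B hV _).trans (congrArg _ (hFρ j))⟩
  have hrelV : ∀ (V : X.affineOpens) (hV : V.1 ≤ U.1), RelsLift V (fV f hV) (FV F hV) P := by
    intro V hV r hr
    let _ := (X.presheaf.map (homOfLE hV).op).hom.toAlgebra
    have : Module.Flat Γ(X, U.1) Γ(X, V.1) := RingHom.flat_algebraMap_iff.1 (by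
      have := (𝟙 X : X ⟶ X).flat_appLE U.2 V.2 hV
      rw [Scheme.Hom.appLE, Scheme.Hom.id_app] at this
      exact this)
    obtain ⟨κ', a, y, hxy, hay⟩ := Module.Flat.isTrivialRelation_of_sum_smul_eq_zero (f := f) (x := r) (by
      rw [← hr]
      exact Finset.sum_congr rfl fun j _ => (Algebra.smul_def _ _).trans (mul_comm _ _))
    have hc : corr (FV F hV) r = ∑ l, fstPull x B V (y l) *
        (XA x B).presheaf.map (homOfLE (W_mono x B hV)).op (corr F fun j => a j l) := by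
      simp only [corr, map_sum, map_mul, Finset.mul_sum, hfst hV]
      rw [Finset.sum_comm]
      refine Finset.sum_congr rfl fun j _ => ?_
      rw [hxy j, map_sum, Finset.sum_mul]
      refine Finset.sum_congr rfl fun l _ => ?_
      rw [Algebra.smul_def, map_mul, mul_comm (fstPull x B V _), mul_assoc]
      rfl
    rw [hc]
    refine sum_mem fun l _ => Ideal.mul_mem_left _ _ ?_
    have h1 := Ideal.mem_map_of_mem ((XA x B).presheaf.map (homOfLE (W_mono x B hV)).op).hom
      (hrel (fun j => a j l) (by rw [← hay l]; exact Finset.sum_congr rfl fun j _ => mul_comm _ _))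
    rw [Ideal.map_mul, Ideal.map_map,
      show (((XA x B).presheaf.map (homOfLE (W_mono x B hV)).op).hom).comp (c x B U) = c x B V
        from RingHom.ext (c_map x B hV)] at h1
    exact Ideal.mul_mono le_rfl (le_of_eq (P.map_ideal (U := W x B V) (V := W x B U) (W_mono x B hV))) h1
  let L : ∀ (V : X.affineOpens) (hV : V.1 ≤ U.1), Γ(XA x B, (W x B V).1) → Γ(ClSub.quotMod I₀, V.1) → Prop :=
    fun V hV => LVal (P := P) (I₀ := I₀) (t := t) (fV f hV) (FV F hV)
  have huniq : ∀ (V : X.affineOpens) (hV : V.1 ≤ U.1) e v v', L V hV e v → L V hV e v' → v = v' := fun V hV e v v' =>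
    LVal.unique hzero _ _ (hrelV V hV)
  have hex : ∀ (V : X.affineOpens) (hV : V.1 ≤ U.1) (s : Γ(G P, V.1)), ∃ v, L V hV (el P V s) v := fun V hV s =>
    exists_lval hrep _ _ (fun j => (hFV V hV j).1) (fun j => (hFV V hV j).2) (hgenV V hV) (h0 V) (el_mem P V s)
  have hLmap : ∀ (V V' : X.affineOpens) (hV : V.1 ≤ U.1) (h : V'.1 ≤ V.1) e v, L V hV e v →
      L V' (h.trans hV) ((XA x B).presheaf.map (homOfLE (W_mono x B h)).op e)
        ((ClSub.quotMod I₀).presheaf.map (homOfLE h).op v) := by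
    rintro V V' hV h e v ⟨r, hr, hv⟩
    have hmm : ∀ j, X.presheaf.map (homOfLE h).op (fV f hV j) = fV f (h.trans hV) j := fun j => by
      rw [fV, fV, ← ConcreteCategory.comp_apply, ← Functor.map_comp]; rfl
    have hMM : ∀ j, (XA x B).presheaf.map (homOfLE (W_mono x B h)).op (FV F hV j) = FV F (h.trans hV) j := fun j => by
      rw [FV, FV, ← ConcreteCategory.comp_apply, ← Functor.map_comp]; rfl
    refine ⟨fun j => X.presheaf.map (homOfLE h).op (r j), ?_, ?_⟩
    · rw [rho_map x B h, hr, map_sum]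
      exact Finset.sum_congr rfl fun j _ => by rw [map_mul, hmm]
    · have hc : corr (FV F (h.trans hV)) (fun j => X.presheaf.map (homOfLE h).op (r j)) =
          (XA x B).presheaf.map (homOfLE (W_mono x B h)).op (corr (FV F hV) r) := by
        rw [corr, corr, map_sum]
        refine Finset.sum_congr rfl fun j _ => ?_
        rw [map_mul, hMM, hfst h]
      rw [hc, ← map_sub]
      exact hv.map h
  let V : U.1.toScheme.affineOpens → X.affineOpens := fun T => ⟨U.1.ι ''ᵁ T.1, T.2.image_of_isOpenImmersion U.1.ι⟩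
  have hVU : ∀ T, (V T).1 ≤ U.1 := fun T => U.1.ι_image_le T.1
  choose v hv using fun (T : U.1.toScheme.affineOpens) (s : Γ(G P, (V T).1)) => hex (V T) (hVU T) s
  have hadd : ∀ T s s', v T (s + s') = v T s + v T s' := fun T s s' =>
    huniq (V T) (hVU T) _ _ _ (hv T _) ((map_add (el P (V T)) s s').symm ▸ (hv T s).add _ _ (hv T s'))
  obtain ⟨θ, hθ⟩ := FamilyHom.exists_hom_of_family (M := (Scheme.Modules.restrictFunctor U.1.ι).obj (G P))
    (N := (Scheme.Modules.restrictFunctor U.1.ι).obj (ClSub.quotMod I₀))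
    (fun T => AddMonoidHom.mk' (v T) (hadd T))
    (fun T T' hT s => by
      have hle : (V T').1 ≤ (V T).1 := U.1.ι.image_mono hT
      show (ClSub.quotMod I₀).presheaf.map (homOfLE hle).op (v T s) = v T' ((G P).presheaf.map (homOfLE hle).op s)
      refine huniq (V T') (hVU T') _ _ _ ?_ (hv T' _)
      rw [el_map P (V T) (V T') hle]
      exact hLmap (V T) (V T') (hVU T) hle _ _ (hv T s))
    (fun T r s => by
      show v T (((U.1.ι.appIso T.1).inv r : Γ(X, (V T).1)) • (show Γ(G P, (V T).1) from s)) =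
        ((U.1.ι.appIso T.1).inv r : Γ(X, (V T).1)) • v T s
      refine huniq (V T) (hVU T) _ _ _ (hv T _) ?_
      rw [el_smul]
      exact (hv T s).smul _ _ _)
  refine ⟨θ, Scheme.Modules.hom_ext _ _ fun O => ?_⟩
  ext kk
  refine FamilyHom.ext_affine ((Scheme.Modules.restrictFunctor U.1.ι).obj (ClSub.quotMod I₀)) O _ _ fun T hT => ?_
  refine (HilbMod.app_map _ hT kk).symm.trans (Eq.trans ?_ (HilbMod.app_map _ hT kk))
  generalize ((Scheme.Modules.restrictFunctor U.1.ι).obj (kernel φ)).presheaf.map (homOfLE hT).op kk = kk'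
  refine (hθ T _).trans (huniq (V T) (hVU T) _ _ _ (hv T _) ?_)
  refine ⟨0, ?_, ?_⟩
  · have e0 : φ.app (V T).1 ((kernel.ι φ).app (V T).1 kk') = 0 := congr(($(kernel.condition φ)).app (V T).1 kk')
    show rho x B (V T) (el P (V T) ((kernel.ι φ).app (V T).1 kk')) = _
    rw [← hφ, e0, map_zero]
    simp
  · rw [show corr (FV F (hVU T)) 0 = 0 by simp [corr], sub_zero]
    exact hκ (V T) kk'

variable (x I₀) in
/-- Generators whose relations lift, near every point and along every small extension. -/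
def LocLifts : Prop :=
  ∀ ⦃B A : Art k k⦄ (p : B ⟶ A), Function.Surjective p → ∀ (IA : (localHilb X x I₀).obj A)
    (P : (XA x B).IdealSheafData), (∀ U, P.ideal (W x B U) = (IA.1.ideal (W x A U)).comap (pi x p U)) →
    ∀ y : I₀.subscheme, ∃ U : X.affineOpens, I₀.subschemeι y ∈ U.1 ∧ ∃ (n : ℕ) (f : Fin n → Γ(X, U.1))
      (F : Fin n → Γ(XA x B, (W x B U).1)), Ideal.span (Set.range f) = I₀.ideal U ∧
      (∀ j, F j ∈ P.ideal (W x B U)) ∧ (∀ j, rho x B U (F j) = f j) ∧ RelsLift U f F P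

theorem span_range_getElem {A : Type u} [CommRing A] (l : List A) :
    Ideal.span (Set.range fun j : Fin l.length => l[j]) = Ideal.ofList l := by
  refine congrArg Ideal.span (Set.ext fun a => ⟨?_, fun ha => ?_⟩)
  · rintro ⟨j, rfl⟩
    exact List.getElem_mem j.2
  · obtain ⟨j, hj, rfl⟩ := List.getElem_of_mem ha
    exact ⟨⟨j, hj⟩, rfl⟩

theorem locLifts_of_regular (hreg : Mor2.IsRegularClosedImmersion I₀.subschemeι) : LocLifts x I₀ := by
  intro B A p hp IA P hP y
  obtain ⟨U, hU, hyU, rs, hrs, hI⟩ := hreg.2 y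
  rw [I₀.ker_subschemeι] at hI
  have hI' : Ideal.span (Set.range fun j : Fin rs.length => rs[j]) = I₀.ideal ⟨U, hU⟩ :=
    (span_range_getElem rs).trans hI.symm
  have h0 : (P.ideal (W x B ⟨U, hU⟩)).map (rho x B ⟨U, hU⟩) = I₀.ideal ⟨U, hU⟩ := by
    rw [hP, show rho x B ⟨U, hU⟩ = (rho x A ⟨U, hU⟩).comp (pi x p ⟨U, hU⟩) from RingHom.ext fun a => (rho_pi x p _ a).symm,
      ← Ideal.map_map, Ideal.map_comap_of_surjective _ (pi_spec x p hp _).1, ← comap_incl_ideal, IA.2.2]
  have hF : ∀ j : Fin rs.length, ∃ e, e ∈ P.ideal (W x B ⟨U, hU⟩) ∧ rho x B ⟨U, hU⟩ e = rs[j] := fun j => by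
    have h1 : rs[j] ∈ I₀.ideal ⟨U, hU⟩ := hI' ▸ Ideal.subset_span ⟨j, rfl⟩
    rw [← h0] at h1
    obtain ⟨e, he, h2⟩ := (Ideal.mem_map_iff_of_surjective _ (rho_spec x B _).1).1 h1
    exact ⟨e, he, h2⟩
  choose F hFP hFρ using hF
  exact ⟨⟨U, hU⟩, hyU, _, _, F, hI', hFP, hFρ, fun r hr =>
    corr_mem_mul _ F hFP hFρ (regular_fin hrs.toIsWeaklyRegular) hr⟩

theorem exists_theta' (φ : G P ⟶ ClSub.idealMod I₀) [Epi φ]
    (hφ : ∀ (U : X.affineOpens) s, OmegaSh.idealSect I₀ U.1 (φ.app U.1 s) = rho x B U (el P U s))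
    (h0 : ∀ U, (P.ideal (W x B U)).map (rho x B U) = I₀.ideal U)
    (htm : t ∈ IsLocalRing.maximalIdeal B)
    (hrep : ∀ U e, e ∈ P.ideal (W x B U) → rho x B U e = 0 → ∃ μ z,
      μ ∈ (IsLocalRing.maximalIdeal B).map (c x B U) * P.ideal (W x B U) ∧ e = μ + c x B U t * z)
    (hzero : ∀ U z, c x B U t * z ∈ (IsLocalRing.maximalIdeal B).map (c x B U) * P.ideal (W x B U) →
      I₀.subschemeι.app U.1 (rho x B U z) = 0)
    (hloc : ∀ y : I₀.subscheme, ∃ U : X.affineOpens, I₀.subschemeι y ∈ U.1 ∧ ∃ (n : ℕ) (f : Fin n → Γ(X, U.1))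
      (F : Fin n → Γ(XA x B, (W x B U).1)), Ideal.span (Set.range f) = I₀.ideal U ∧
      (∀ j, F j ∈ P.ideal (W x B U)) ∧ (∀ j, rho x B U (F j) = f j) ∧ RelsLift U f F P)
    (hsplit : Splits (Omega.conormal I₀.subschemeι)) :
    ∃ θ : G P ⟶ ClSub.quotMod I₀, ∀ (U : X.affineOpens) s μ z,
      μ ∈ (IsLocalRing.maximalIdeal B).map (c x B U) * P.ideal (W x B U) → el P U s = μ + c x B U t * z →
      θ.app U.1 s = I₀.subschemeι.app U.1 (rho x B U z) := by
  have hkρ : ∀ (U : X.affineOpens) (kk : Γ(kernel φ, U.1)), rho x B U (el P U ((kernel.ι φ).app U.1 kk)) = 0 := fun U kk => by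
    have e0 : φ.app U.1 ((kernel.ι φ).app U.1 kk) = 0 := congr(($(kernel.condition φ)).app U.1 kk)
    rw [← hφ, e0, map_zero]
  have hex : ∀ (U : X.affineOpens) kk, ∃ v, Val P I₀ t U (el P U ((kernel.ι φ).app U.1 kk)) v := fun U kk => by
    obtain ⟨μ, z, hμ, hz⟩ := hrep U _ (el_mem P U _) (hkρ U kk)
    exact ⟨_, μ, z, hμ, hz, rfl⟩
  choose κf hκf using hex
  obtain ⟨κ, hκ⟩ := FamilyHom.exists_hom_of_family (fun U => AddMonoidHom.mk' (κf U) fun a b => by
      refine (hκf U (a + b)).unique hzero ?_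
      rw [map_add, map_add]
      exact (hκf U a).add (hκf U b))
    (fun U V hV kk => by
      refine Val.unique hzero ?_ (hκf V _)
      rw [app_map, el_map P U V hV]
      exact (hκf U kk).map hV)
    (fun U r kk => by
      refine (hκf U _).unique hzero ?_
      rw [Scheme.Modules.Hom.app_smul, el_smul]
      exact (hκf U kk).smul r)
  have hκ' : ∀ (U : X.affineOpens) kk, Val P I₀ t U (el P U ((kernel.ι φ).app U.1 kk)) (κ.app U.1 kk) := fun U kk =>
    (hκ U kk).symm ▸ hκf U kk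
  have hker : I₀.subschemeι.ker = I₀ := I₀.ker_subschemeι
  obtain ⟨θ, hθ⟩ := exists_extend_of_local I₀.subschemeι φ κ (fun y => by
      obtain ⟨U, hyU, n, f, F, hgen, hFP, hFρ, hrel⟩ := hloc y
      exact ⟨U.1, hyU, exists_local φ hφ h0 hrep hzero κ hκ' U f F hgen hFP hFρ hrel⟩)
    (by rw [Omega.conormal, hker] at hsplit; exact hsplit)
  refine ⟨θ, fun U s μ z hμ he => ?_⟩
  have hρ0 : rho x B U (el P U s) = 0 := by
    have e1 : ∀ a ∈ (IsLocalRing.maximalIdeal B).map (c x B U), rho x B U a = 0 := fun a ha =>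
      RingHom.mem_ker.1 ((rho_spec x B U).2.ge ha)
    rw [he, map_add, map_mul, e1 μ ((Ideal.mul_le_left : (IsLocalRing.maximalIdeal B).map (c x B U) * P.ideal (W x B U) ≤ _) hμ),
      e1 (c x B U t) (Ideal.mem_map_of_mem _ htm), zero_mul, add_zero]
  have hs0 : φ.app U.1 s = 0 := OmegaLib.idealSect_injective I₀ U.1 (by rw [hφ, hρ0, map_zero])
  have hk := OmegaSh.ι_kerLift φ U.1 s hs0
  have e2 : θ.app U.1 ((kernel.ι φ).app U.1 (OmegaSh.kerLift φ U.1 s hs0)) =
      κ.app U.1 (OmegaSh.kerLift φ U.1 s hs0) := congr(($hθ).app U.1 _)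
  rw [hk] at e2
  exact e2.trans ((hκ' U _).unique hzero ⟨μ, z, hμ, by rw [hk, he], rfl⟩)

/-- The lift cut out by a homomorphism with the prescribed values on `m P + t R`. -/
theorem exists_point {B A : Art k k} (p : B ⟶ A) (hp : Function.Surjective p) (t : B)
    (hkt : RingHom.ker p.toAlgHom.toRingHom = Ideal.span {t}) (ht0 : t ≠ 0)
    (hm0 : IsLocalRing.maximalIdeal B * Ideal.span {t} = ⊥) (IA : (localHilb X x I₀).obj A)
    (P : (XA x B).IdealSheafData) (hP : ∀ U, P.ideal (W x B U) = (IA.1.ideal (W x A U)).comap (pi x p U))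
    (θ : G P ⟶ ClSub.quotMod I₀)
    (hθ : ∀ (U : X.affineOpens) s μ z, μ ∈ (IsLocalRing.maximalIdeal B).map (c x B U) * P.ideal (W x B U) →
      el P U s = μ + c x B U t * z → θ.app U.1 s = I₀.subschemeι.app U.1 (rho x B U z)) :
    ∃ I : (localHilb X x I₀).obj B, I.1.comap (XAmap x p) = IA.1 ∧
      ∀ (U : X.affineOpens) a, a ∈ I.1.ideal (W x B U) ↔ ∃ s, el P U s = a ∧ θ.app U.1 s = 0 := by
  have hpt : p t = 0 := RingHom.mem_ker.1 (hkt.ge (Ideal.mem_span_singleton_self t))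
  haveI := isClosedImmersion_map x p hp
  have hIA : ∀ U, ((Ideal.Quotient.mk (IA.1.ideal (W x A U))).comp (c x A U)).Flat :=
    fun U => flat_quotient x IA.1 IA.2.1 U
  have h0A : ∀ U, (IA.1.ideal (W x A U)).map (rho x A U) = I₀.ideal U := fun U => by
    rw [← comap_incl_ideal, IA.2.2]
  have hlin : ∀ (U : X.affineOpens) s (R : Γ(XA x B, (W x B U).1)) s', el P U s' = R * el P U s →
      θ.app U.1 s' = rho x B U R • θ.app U.1 s := fun U s R s' he => by
    rw [← Scheme.Modules.Hom.app_smul, ← sub_eq_zero, ← map_sub]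
    rw [hθ U _ ((R - fstPull x B U (rho x B U R)) * el P U s) 0 ?_ ?_, map_zero]
    · exact map_zero (I₀.subschemeι.app U.1).hom
    · refine Ideal.mul_mem_mul ?_ (el_mem P U s)
      rw [← (rho_spec x B U).2, RingHom.mem_ker, map_sub, rho_fst, sub_self]
    · rw [mul_zero, add_zero, sub_mul, ← he, ← el_smul, map_sub]
  obtain ⟨I, hI⟩ := exists_ideal P I₀ θ hlin
  have hcz : ∀ U z, ∃ s, el P U s = c x B U t * z ∧ θ.app U.1 s = I₀.subschemeι.app U.1 (rho x B U z) := fun U z => by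
    obtain ⟨s, hs⟩ := exists_el P U (c x B U t * z) (by
      rw [hP, Ideal.mem_comap, map_mul, pi_c, hpt, map_zero, zero_mul]; exact zero_mem _)
    exact ⟨s, hs, hθ U s 0 z (zero_mem _) (by rw [hs, zero_add])⟩
  have hmapA : ∀ U, (I.ideal (W x B U)).map (pi x p U) = IA.1.ideal (W x A U) := fun U => by
    refine le_antisymm (Ideal.map_le_iff_le_comap.2 fun a ha => ?_) fun α hα => ?_
    · obtain ⟨s, rfl, -⟩ := (hI U a).1 ha
      exact hP U ▸ el_mem P U s
    · obtain ⟨a, rfl⟩ := (pi_spec x p hp U).1 α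
      obtain ⟨s, hs⟩ := exists_el P U a (by rw [hP]; exact hα)
      obtain ⟨w, hw⟩ := I₀.subschemeι_app_surjective U (θ.app U.1 s)
      obtain ⟨z, hz⟩ := (rho_spec x B U).1 w
      obtain ⟨s', hs', hs'θ⟩ := hcz U z
      have hmem : a - c x B U t * z ∈ I.ideal (W x B U) :=
        (hI U _).2 ⟨s - s', by rw [map_sub, hs, hs'], by rw [map_sub, hs'θ, hz, hw]; exact sub_self _⟩
      have h5 := Ideal.mem_map_of_mem (pi x p U) hmem
      rwa [map_sub, map_mul, pi_c, hpt, map_zero, zero_mul, sub_zero] at h5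
  have hcomap : I.comap (XAmap x p) = IA.1 := HilbAffine.ext_ideal x fun U => by
    rw [comap_map_ideal, hmapA]
  refine ⟨⟨I, ?_, ?_⟩, hcomap, hI⟩
  · refine flat_of_ideals I fun U => ?_
    refine HilbObsRing.flat_of_lift (sit x p hp t hkt ht0 hm0 U) (hIA U) (rho_spec x B U).1
      (I.ideal (W x B U)) (hmapA U) fun z hz => ?_
    obtain ⟨s, hs, hs0⟩ := (hI U _).1 hz
    obtain ⟨s', hs', hs'θ⟩ := hcz U z
    obtain rfl : s = s' := el_injective P U (hs.trans hs'.symm)
    show rho x B U z ∈ (IA.1.ideal (W x A U)).map (rho x A U)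
    rw [h0A, ← I₀.ker_subschemeι_app, RingHom.mem_ker]
    exact hs'θ.symm.trans hs0
  · rw [← XAincl_XAmap x p, Scheme.IdealSheafData.comap_comp, hcomap, IA.2.2]

theorem small_surjective (hll : LocLifts x I₀)
    (hsplit : Splits (Omega.conormal I₀.subschemeι))
    {B A : Art k k} (p : B ⟶ A) (hp : IsSmallExt p) (IA : (localHilb X x I₀).obj A) :
    ∃ I : (localHilb X x I₀).obj B, I.1.comap (XAmap x p) = IA.1 := by
  obtain ⟨t, ht⟩ := hp.2.2.1
  have hkt : RingHom.ker p.toAlgHom.toRingHom = Ideal.span {t} := ht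
  have ht0 : t ≠ 0 := fun h0 => hp.2.1 (ht.trans (by
    show Ideal.span {t} = ⊥; rw [h0, Ideal.span_singleton_zero]))
  have hm0 : IsLocalRing.maximalIdeal B * Ideal.span {t} = ⊥ := by rw [← hkt]; exact hp.2.2.2
  have hpt : p t = 0 := RingHom.mem_ker.1 (hkt.ge (Ideal.mem_span_singleton_self t))
  have htm : t ∈ IsLocalRing.maximalIdeal B := ArtFunLib.ker_le_maximalIdeal p (hkt.ge (Ideal.mem_span_singleton_self t))
  haveI := isClosedImmersion_map x p hp.1
  have hIA : ∀ U, ((Ideal.Quotient.mk (IA.1.ideal (W x A U))).comp (c x A U)).Flat :=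
    fun U => flat_quotient x IA.1 IA.2.1 U
  have h0A : ∀ U, (IA.1.ideal (W x A U)).map (rho x A U) = I₀.ideal U := fun U => by
    rw [← comap_incl_ideal, IA.2.2]
  obtain ⟨P, hP⟩ : ∃ P : (XA x B).IdealSheafData,
      ∀ U, P.ideal (W x B U) = (IA.1.ideal (W x A U)).comap (pi x p U) :=
    ⟨IA.1.map (XAmap x p), fun U => Ideal.ext fun a =>
      mem_map_iff (XAmap x p) IA.1 (W x B U) (W x A U) (pi_le x p U) (pi_le x p U).le a⟩
  have h0 : ∀ U, (P.ideal (W x B U)).map (rho x B U) = I₀.ideal U := fun U => by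
    rw [hP, show rho x B U = (rho x A U).comp (pi x p U) from RingHom.ext fun a => (rho_pi x p U a).symm,
      ← Ideal.map_map, Ideal.map_comap_of_surjective _ (pi_spec x p hp.1 U).1, h0A]
  obtain ⟨φ, hepi, hφ⟩ := exists_phi P I₀ h0
  obtain ⟨θ, hθ⟩ := exists_theta' (t := t) φ hφ h0 htm
    (fun U e he hρ => by
      rw [hP] at he
      obtain ⟨μ, hμ, w, hw, e'⟩ := Submodule.mem_sup.1
        (HilbObsRing.inf_ker_le (sit x p hp.1 t hkt ht0 hm0 U) (hIA U) ⟨he, RingHom.mem_ker.2 hρ⟩)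
      obtain ⟨z, rfl⟩ := Ideal.mem_span_singleton'.1 hw
      exact ⟨μ, z, by rw [hP]; exact hμ, e'.symm.trans (by rw [mul_comm z]; rfl)⟩)
    (fun U z hz => by
      rw [hP] at hz
      have := HilbObsRing.rho_mem_of_mem_mul (sit x p hp.1 t hkt ht0 hm0 U) (hIA U) z hz
      rw [← RingHom.mem_ker, I₀.ker_subschemeι_app, ← h0A U]
      exact this) (hll p hp.1 IA P hP) hsplit
  obtain ⟨I, hI, -⟩ := exists_point p hp.1 t hkt ht0 hm0 IA P hP θ hθ
  exact ⟨I, hI⟩

theorem isSmooth_of_locLifts (hll : LocLifts x I₀)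
    (hsplit : Splits (Omega.conormal I₀.subschemeι)) : IsSmoothFunctor (localHilb X x I₀) := by
  intro B A p hp
  refine ArtFunLib.surjective_induction (P := fun _ _ q => Function.Surjective ((localHilb X x I₀).map q)) ?_ ?_ ?_ p hp
  · intro A B e he
    haveI := he
    exact ((isIso_iff_bijective _).1 (inferInstance : IsIso ((localHilb X x I₀).map e))).2
  · intro A B q hq IA
    obtain ⟨I, hI⟩ := small_surjective hll hsplit q hq IA
    exact ⟨I, Subtype.ext hI⟩
  · intro A B C q r _ _ h1 h2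
    rw [Functor.map_comp]
    exact h2.comp h1

theorem isSmooth (hreg : Mor2.IsRegularClosedImmersion I₀.subschemeι)
    (hsplit : Splits (Omega.conormal I₀.subschemeι)) : IsSmoothFunctor (localHilb X x I₀) :=
  isSmooth_of_locLifts (locLifts_of_regular hreg) hsplit

end Groth.Agent.H9Hilb
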