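import Groth.Agent.H9Hilb.Fibre
import Groth.Agent.H9DefAut.Tangent
import Groth.Agent.ArtFunLib.Hull.Prorep
import Groth.Agent.ExtShX.LinearHom
import Groth.Agent.SheafHomX.Proper
import Groth.Agent.QCoh.ProperOver2
import Groth.Agent.PPSheaf.GrCoh
import Groth.Agent.ParShLib.ResStalk
import Groth.Agent.Big.Cartier

/-! The tangent space of the local Hilbert functor. -/

set_option autoImplicit false
set_option backward.isDefEq.respectTransparency false
set_option backward.isDefEq.respectTransparency.types false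

universe u

open CategoryTheory CategoryTheory.Limits AlgebraicGeometry ArtFun ArtFun.Art Opposite TrivSqZeroExt

noncomputable section

namespace Groth.Agent.H9Hilb

open Groth.Agent.ArtFunLib Groth.Agent.ArtFunLib.HilbAffine Groth.Agent.ArtFunLib.HilbSit
open Groth.Agent.DefGlueLib (IsDef)
open Groth.Agent.H9DefAut (eps)

variable {k : Type u} [Field k] {X : Scheme.{u}}

theorem eq_zero_of_eps_mul {R B₀ : Type u} [CommRing R] [CommRing B₀] {c₀ : k →+* B₀}
    {a : (Art.dual k k) →+* R} {q : R →+* B₀} (h : IsDef (Art.dual k k) c₀ a q) {z : R}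
    (e : a eps * z = 0) : q z = 0 := by
  let l : Art.dual k k →ₗ[k] k := TrivSqZeroExt.sndHom k k
  obtain ⟨L, hL⟩ := H9DefAut.exists_isLam 1 h (l := l) fun y hy => by
    rw [pow_two] at hy
    have : y = 0 := (Submodule.mem_bot _).1 (Ideal.mul_le.2 (fun a ha b hb => by
      rw [Submodule.mem_bot]; exact H9DefAut.mul_eq_zero_dual ha hb) hy)
    rw [this, map_zero]
  have h1 := hL eps (by rw [pow_one]; exact H9DefAut.eps_mem) z
  rw [show l eps = 1 from snd_inr k (1 : k), map_one, one_mul, e, map_zero] at h1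
  exact h1.symm

variable (x : X ⟶ specPt k) (I₀ : X.IdealSheafData)

theorem fstPull_map (B : Art k k) {U V : X.affineOpens} (h : V.1 ≤ U.1) (r : Γ(X, U.1)) :
    (XA x B).presheaf.map (homOfLE (W_mono x B h)).op (fstPull x B U r) =
      fstPull x B V (X.presheaf.map (homOfLE h).op r) :=
  congr($((pullback.fst x (specOver B)).naturality (homOfLE h).op) r).symm

theorem pi_fstPull {B A : Art k k} (p : B ⟶ A) (U : X.affineOpens) (r : Γ(X, U.1)) :
    pi x p U (fstPull x B U r) = fstPull x A U r := by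
  have h1 : (pullback.fst x (specOver B)).app U.1 ≫
      (XAmap x p).appLE (W x B U).1 (W x A U).1 (pi_le x p U).le = (pullback.fst x (specOver A)).app U.1 := by
    rw [Scheme.Hom.app_eq_appLE, Scheme.Hom.app_eq_appLE]
    refine (Scheme.Hom.appLE_comp_appLE (XAmap x p) (pullback.fst x (specOver B)) U.1 (W x B U).1
      (W x A U).1 le_rfl (pi_le x p U).le).trans ?_
    exact appLE_congr (XAmap_fst x p) _ _ _ _
  exact congr($h1 r)

/-- `v` is the value at `a` of the homomorphism of the first order deformation `I`. -/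
def Rel (I : (XA x (Art.dual k k)).IdealSheafData) (U : X.affineOpens) (a : Γ(X, U.1))
    (v : Γ(ClSub.quotMod I₀, U.1)) : Prop :=
  ∃ z, fstPull x (Art.dual k k) U a + c x (Art.dual k k) U eps * z ∈ I.ideal (W x _ U) ∧
    v = I₀.subschemeι.app U.1 (rho x (Art.dual k k) U z)

variable {x I₀} (I : (localHilb X x I₀).obj (Art.dual k k))

theorem exists_rel (U : X.affineOpens) {a : Γ(X, U.1)} (ha : a ∈ I₀.ideal U) :
    ∃ v, Rel x I₀ I.1 U a v := by
  rw [← I.2.2, comap_incl_ideal] at ha
  obtain ⟨e, he, rfl⟩ := (Ideal.mem_map_iff_of_surjective _ (rho_spec x _ U).1).1 ha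
  have h1 : e - fstPull x (Art.dual k k) U (rho x _ U e) ∈ RingHom.ker (rho x (Art.dual k k) U) := by
    rw [RingHom.mem_ker, map_sub, rho_fst, sub_self]
  rw [(rho_spec x _ U).2, H9DefAut.maximalIdeal_dual, Ideal.map_span, Set.image_singleton,
    Ideal.mem_span_singleton'] at h1
  obtain ⟨z, hz⟩ := h1
  exact ⟨_, z, by rwa [mul_comm, hz, add_sub_cancel], rfl⟩

theorem rel_unique (U : X.affineOpens) {a : Γ(X, U.1)} {v v' : Γ(ClSub.quotMod I₀, U.1)}
    (h : Rel x I₀ I.1 U a v) (h' : Rel x I₀ I.1 U a v') : v = v' := by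
  obtain ⟨z, hz, rfl⟩ := h
  obtain ⟨z', hz', rfl⟩ := h'
  rw [← sub_eq_zero]
  show I₀.subschemeι.app U.1 _ - I₀.subschemeι.app U.1 _ = 0
  rw [← map_sub, ← map_sub, ← RingHom.mem_ker, I₀.ker_subschemeι_app]
  refine Ideal.Quotient.eq_zero_iff_mem.1
    (eq_zero_of_eps_mul (isDef_of_mem x I₀ I.1 I.2.1 I.2.2 U) (z := Ideal.Quotient.mk _ (z - z')) ?_)
  rw [RingHom.comp_apply, ← map_mul, Ideal.Quotient.eq_zero_iff_mem, mul_sub]
  simpa using sub_mem hz hz'

/-- The homomorphism of a first order deformation. -/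
theorem exists_theta : ∃ θ : ClSub.idealMod I₀ ⟶ ClSub.quotMod I₀, ∀ (U : X.affineOpens) s,
    Rel x I₀ I.1 U (OmegaSh.idealSect I₀ U.1 s) (θ.app U.1 s) := by
  choose f hf using fun (U : X.affineOpens) (s : Γ(ClSub.idealMod I₀, U.1)) =>
    exists_rel I U (OmegaLib.idealSect_mem I₀ U s)
  have hadd : ∀ U s s', f U (s + s') = f U s + f U s' := fun U s s' => by
    refine rel_unique I U (hf U _) ?_
    obtain ⟨z, hz, e⟩ := hf U s
    obtain ⟨z', hz', e'⟩ := hf U s'
    refine ⟨z + z', ?_, ?_⟩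
    · convert add_mem hz hz' using 1
      rw [map_add, map_add]; ring
    · rw [e, e', map_add]
      exact (map_add (I₀.subschemeι.app U.1).hom _ _).symm
  obtain ⟨θ, hθ⟩ := FamilyHom.exists_hom_of_family (fun U => AddMonoidHom.mk' (f U) (hadd U))
    (fun U V hV s => by
      refine (rel_unique I V (hf V _) ?_).symm
      obtain ⟨z, hz, e⟩ := hf U s
      refine ⟨(XA x _).presheaf.map (homOfLE (W_mono x _ hV)).op z, ?_, ?_⟩
      · rw [OmegaLib.idealSect_map I₀ hV, ← fstPull_map x _ hV, ← c_map x _ hV, ← map_mul, ← map_add]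
        exact Ideal.mem_comap.1 (I.1.ideal_le_comap_ideal (U := W x _ V) (V := W x _ U) (W_mono x _ hV) hz)
      · show (ClSub.quotMod I₀).presheaf.map (homOfLE hV).op (f U s) = _
        rw [e, rho_map x _ hV]
        exact (congr($(I₀.subschemeι.naturality (homOfLE hV).op) (rho x _ U z))).symm)
    (fun U r s => by
      refine rel_unique I U (hf U _) ?_
      obtain ⟨z, hz, e⟩ := hf U s
      refine ⟨fstPull x _ U r * z, ?_, ?_⟩
      · rw [OmegaLib.idealSect_smul, map_mul]
        convert Ideal.mul_mem_left _ (fstPull x (Art.dual k k) U r) hz using 1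
        ring
      · show r • f U s = _
        rw [e, map_mul, rho_fst]
        exact (map_mul (I₀.subschemeι.app U.1).hom _ _).symm)
  exact ⟨θ, fun U s => by rw [hθ]; exact hf U s⟩

variable (x I₀) in
/-- The homomorphism of a tangent vector. -/
def theta (I : (localHilb X x I₀).obj (Art.dual k k)) : ClSub.idealMod I₀ ⟶ ClSub.quotMod I₀ :=
  (exists_theta I).choose

theorem theta_spec (U : X.affineOpens) (s : Γ(ClSub.idealMod I₀, U.1)) :
    Rel x I₀ I.1 U (OmegaSh.idealSect I₀ U.1 s) ((theta x I₀ I).app U.1 s) :=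
  (exists_theta I).choose_spec U s

theorem theta_injective : Function.Injective (theta x I₀) := by
  intro I J e
  refine Subtype.ext (eq_of_le I.2.1 I.2.2 J.2.1 J.2.2 fun U a ha => ?_)
  have hρ : rho x _ U a ∈ I₀.ideal U := by
    rw [← I.2.2, comap_incl_ideal]; exact Ideal.mem_map_of_mem _ ha
  obtain ⟨s, hs⟩ := OmegaLib.exists_of_mem I₀ U _ hρ
  have h1 : a - fstPull x (Art.dual k k) U (rho x _ U a) ∈ RingHom.ker (rho x (Art.dual k k) U) := by
    rw [RingHom.mem_ker, map_sub, rho_fst, sub_self]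
  rw [(rho_spec x _ U).2, H9DefAut.maximalIdeal_dual, Ideal.map_span, Set.image_singleton,
    Ideal.mem_span_singleton'] at h1
  obtain ⟨z, hz⟩ := h1
  have hI : Rel x I₀ I.1 U (rho x _ U a) (I₀.subschemeι.app U.1 (rho x _ U z)) :=
    ⟨z, by rwa [mul_comm, hz, add_sub_cancel], rfl⟩
  obtain ⟨z', hz', e'⟩ := (show Rel x I₀ J.1 U (rho x _ U a) (I₀.subschemeι.app U.1 (rho x _ U z)) by
    rw [rel_unique I U hI (hs ▸ theta_spec I U s), e]
    exact hs ▸ theta_spec J U s)
  have hd : rho x _ U z - rho x _ U z' ∈ (J.1.ideal (W x _ U)).map (rho x (Art.dual k k) U) := by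
    rw [← comap_incl_ideal, J.2.2, ← I₀.ker_subschemeι_app, RingHom.mem_ker, map_sub, e']
    exact sub_self _
  rw [← map_sub] at hd
  obtain ⟨w, hw, hwz⟩ := (Ideal.mem_map_iff_of_surjective _ (rho_spec x _ U).1).1 hd
  have hd' : z - z' - w ∈ RingHom.ker (rho x (Art.dual k k) U) := by
    rw [RingHom.mem_ker, map_sub, hwz, sub_self]
  rw [(rho_spec x _ U).2, H9DefAut.maximalIdeal_dual, Ideal.map_span, Set.image_singleton,
    Ideal.mem_span_singleton'] at hd'
  obtain ⟨t, ht⟩ := hd'
  have he : c x (Art.dual k k) U eps * c x (Art.dual k k) U eps = 0 := by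
    rw [← map_mul, H9DefAut.mul_eq_zero_dual H9DefAut.eps_mem H9DefAut.eps_mem, map_zero]
  have : a = (fstPull x _ U (rho x _ U a) + c x _ U eps * z') + c x _ U eps * w := by
    linear_combination (-1 : Γ(XA x _, (W x (Art.dual k k) U).1)) * hz + (-c x (Art.dual k k) U eps) * ht + t * he
  rw [this]
  exact add_mem hz' (Ideal.mul_mem_left _ _ hw)

theorem cst_eq (U : X.affineOpens) (a : k) :
    cst x U a = X.presheaf.map (homOfLE (le_top : U.1 ≤ ⊤)).op (Coh.toGlobal x a) :=
  (congr($(Scheme.Hom.appLE_map (f := x) (U := ⊤) (V := ⊤) le_top (homOfLE (le_top : U.1 ≤ ⊤)).op)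
    ((Scheme.ΓSpecIso (CommRingCat.of k)).inv a))).symm.trans
    (congrArg (fun f => (X.presheaf.map (homOfLE (le_top : U.1 ≤ ⊤)).op).hom
      (CommRingCat.Hom.hom f ((Scheme.ΓSpecIso (CommRingCat.of k)).inv a))) (Scheme.Hom.app_eq_appLE (f := x) (U := ⊤)).symm)

theorem ext_hom {M N : X.Modules} {f g : M ⟶ N} (h : ∀ (U : X.affineOpens) s, f.app U.1 s = g.app U.1 s) :
    f = g := by
  refine Scheme.Modules.hom_ext _ _ fun V => ?_
  ext v
  refine FamilyHom.ext_affine N V _ _ fun U hU => ?_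
  exact (HilbMod.app_map f hU v).symm.trans ((h U _).trans (HilbMod.app_map g hU v))

theorem theta_add (z : (localHilb X x I₀).obj (Art.dual2 k k)) :
    theta x I₀ ((localHilb X x I₀).map Art.plus z) =
      theta x I₀ ((localHilb X x I₀).map Art.pr₁ z) + theta x I₀ ((localHilb X x I₀).map Art.pr₂ z) := by
  refine ext_hom fun U s => ?_
  let B : Art k k := Art.dual2 k k
  let ε₁ : B := (TrivSqZeroExt.inr (1, 0) : TrivSqZeroExt k (k × k))
  let ε₂ : B := (TrivSqZeroExt.inr (0, 1) : TrivSqZeroExt k (k × k))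
  have hm : IsLocalRing.maximalIdeal B ≤ Ideal.span {ε₁, ε₂} := fun y hy => by
    have hy' : TrivSqZeroExt.fst (show TrivSqZeroExt k (k × k) from y) = 0 := (Art.mem_maximalIdeal_iff B y).1 hy
    refine Ideal.mem_span_pair.2 ⟨(TrivSqZeroExt.inl (snd (show TrivSqZeroExt k (k × k) from y)).1 : TrivSqZeroExt k (k × k)),
      (TrivSqZeroExt.inl (snd (show TrivSqZeroExt k (k × k) from y)).2 : TrivSqZeroExt k (k × k)), ?_⟩
    refine TrivSqZeroExt.ext ?_ ?_
    · exact (fst_add (inl (snd (show TrivSqZeroExt k (k × k) from y)).1 * inr (1, 0) : TrivSqZeroExt k (k × k))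
        (inl (snd (show TrivSqZeroExt k (k × k) from y)).2 * inr (0, 1))).trans (by simp [hy'])
    · exact (snd_add (inl (snd (show TrivSqZeroExt k (k × k) from y)).1 * inr (1, 0) : TrivSqZeroExt k (k × k))
        (inl (snd (show TrivSqZeroExt k (k × k) from y)).2 * inr (0, 1))).trans (by simp)
  have ha : OmegaSh.idealSect I₀ U.1 s ∈ (z.1.ideal (W x B U)).map (rho x B U) :=
    SetLike.le_def.1 (le_of_eq ((congrArg (fun K => K.ideal U) z.2.2.symm).trans (comap_incl_ideal x z.1 U)))
      (OmegaLib.idealSect_mem I₀ U s)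
  obtain ⟨e, he, hea⟩ := (Ideal.mem_map_iff_of_surjective _ (rho_spec x _ U).1).1 ha
  let a := OmegaSh.idealSect I₀ U.1 s
  have h1 : e - fstPull x B U a ∈ (Ideal.span {ε₁, ε₂}).map (c x B U) := by
    refine Ideal.map_mono hm ?_
    rw [← (rho_spec x _ U).2, RingHom.mem_ker, map_sub, rho_fst, hea, sub_self]
  rw [Ideal.map_span, Set.image_pair, Ideal.mem_span_pair] at h1
  obtain ⟨z₁, z₂, hz⟩ := h1
  have hrel : ∀ (g : B ⟶ Art.dual k k) (u₁ u₂ : Art.dual k k), g ε₁ = u₁ * eps → g ε₂ = u₂ * eps →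
      (theta x I₀ ((localHilb X x I₀).map g z)).app U.1 s =
        I₀.subschemeι.app U.1 (cst x U ((Art.dual k k).res u₁) * rho x B U z₁ +
          cst x U ((Art.dual k k).res u₂) * rho x B U z₂) := fun g u₁ u₂ h₁ h₂ => by
    refine rel_unique _ U (theta_spec _ U s) ⟨c x _ U u₁ * pi x g U z₁ + c x _ U u₂ * pi x g U z₂, ?_, ?_⟩
    · change _ ∈ (z.1.comap (XAmap x g)).ideal (W x _ U)
      rw [comap_map_ideal]
      convert Ideal.mem_map_of_mem (pi x g U) he using 1
      rw [show e = fstPull x B U a + (z₁ * c x B U ε₁ + z₂ * c x B U ε₂) by rw [hz]; ring, map_add,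
        map_add, map_mul, map_mul, pi_c, pi_c, pi_fstPull, h₁, h₂, map_mul, map_mul]
      ring
    · rw [map_add (rho x (Art.dual k k) U), map_mul (rho x (Art.dual k k) U), map_mul (rho x (Art.dual k k) U),
        rho_c, rho_c, rho_pi, rho_pi]
  have hp1 : (Art.pr₁ : B ⟶ Art.dual k k) ε₁ = (1 : Art.dual k k) * (eps (k := k) : Art.dual k k) := (one_mul _).symm
  have hp1' : (Art.pr₁ : B ⟶ Art.dual k k) ε₂ = (0 : Art.dual k k) * (eps (k := k) : Art.dual k k) := by rw [zero_mul]; exact TrivSqZeroExt.ext rfl rfl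
  have hp2 : (Art.pr₂ : B ⟶ Art.dual k k) ε₁ = (0 : Art.dual k k) * (eps (k := k) : Art.dual k k) := by rw [zero_mul]; exact TrivSqZeroExt.ext rfl rfl
  have hp2' : (Art.pr₂ : B ⟶ Art.dual k k) ε₂ = (1 : Art.dual k k) * (eps (k := k) : Art.dual k k) := (one_mul _).symm
  have hs1 : (Art.plus : B ⟶ Art.dual k k) ε₁ = (1 : Art.dual k k) * (eps (k := k) : Art.dual k k) := by rw [one_mul]; exact TrivSqZeroExt.ext rfl (add_zero (1 : k))
  have hs2 : (Art.plus : B ⟶ Art.dual k k) ε₂ = (1 : Art.dual k k) * (eps (k := k) : Art.dual k k) := by rw [one_mul]; exact TrivSqZeroExt.ext rfl (zero_add (1 : k))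
  rw [Scheme.Modules.Hom.add_app]
  change _ = (theta x I₀ _).app U.1 s + (theta x I₀ _).app U.1 s
  rw [hrel _ 1 1 hs1 hs2, hrel _ 1 0 hp1 hp1', hrel _ 0 1 hp2 hp2']
  simp only [map_one, map_zero, one_mul, zero_mul, add_zero, zero_add]
  exact map_add (I₀.subschemeι.app U.1).hom _ _

theorem theta_smul (a : k) (U : X.affineOpens) (s : Γ(ClSub.idealMod I₀, U.1)) :
    (theta x I₀ ((localHilb X x I₀).map (Art.scale a) I)).app U.1 s =
      cst x U a • (theta x I₀ I).app U.1 s := by
  obtain ⟨z, hz, e⟩ := theta_spec I U s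
  refine rel_unique _ U (theta_spec _ U s)
    ⟨c x _ U (algebraMap k (Art.dual k k) a) * pi x (Art.scale a) U z, ?_, ?_⟩
  · change _ ∈ (I.1.comap (XAmap x (Art.scale a))).ideal (W x _ U)
    rw [comap_map_ideal]
    convert Ideal.mem_map_of_mem (pi x (Art.scale a) U) hz using 1
    rw [map_add, map_mul (pi x (Art.scale a) U), pi_c, pi_fstPull,
      show (Art.scale a : Art.dual k k ⟶ Art.dual k k) eps = algebraMap k (Art.dual k k) a * eps from
        TrivSqZeroExt.ext ((mul_zero a).symm.trans (fst_mul (inl a : DualNumber k) (inr 1)).symm)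
          ((show (a • LinearMap.id : k →ₗ[k] k) 1 = snd ((inl a : DualNumber k) * inr 1) by simp)), map_mul]
    ring
  · rw [e, map_mul, rho_c, rho_pi, show (Art.dual k k).res (algebraMap k _ a) = a from
      (Art.dual k k).res.commutes a]
    exact (map_mul (I₀.subschemeι.app U.1).hom _ _).symm

variable (x I₀) in
/-- Pro-representability of the local Hilbert functor of a closed subscheme proper over the field. -/
theorem isProrepresentable [LocallyOfFiniteType x] [QuasiCompact x]
    [IsProper (I₀.subschemeι ≫ x)] : IsProrepresentable (localHilb X x I₀) := by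
  let _ : X.Over (Spec (CommRingCat.of k)) := ⟨x⟩
  have h0 : H0 (localHilb X x I₀) := h0_localHilb
  have heps : Heps (localHilb X x I₀) := fun _ _ _ _ h => bijective_cmp h (Art.dual k k).res_surjective
  obtain ⟨T⟩ := nonempty_tangentStr h0 heps
  have hk : Function.Surjective (algebraMap k k) := fun c => ⟨c, rfl⟩
  have : CompactSpace X := QuasiCompact.compactSpace_of_compactSpace x
  have : IsLocallyNoetherian X := LocallyOfFiniteType.isLocallyNoetherian x
  have : IsNoetherian X := { __ := ‹IsLocallyNoetherian X›, __ := ‹CompactSpace X› }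
  have hM : Coh.IsCoh (ClSub.idealMod I₀) := PPSheaf.GrCoh.isCoh_idealMod I₀ fun U =>
    have := IsLocallyNoetherian.component_noetherian (X := X) U
    IsNoetherian.noetherian (R := Γ(X, U.1)) _
  have hN : Coh.IsCoh (ClSub.quotMod I₀) := ParShLib.isCoh_quotMod I₀
  have hC := QCoh.isProperOver_range (q := x) I₀.subschemeι
  have hsupp : CohB1.support ((SheafHomX.hom (ClSub.idealMod I₀)).obj (ClSub.quotMod I₀)) ⊆
      Set.range I₀.subschemeι := by
    refine (SheafHomX.support_hom_subset hM hN).trans (Set.inter_subset_right.trans ?_)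
    rw [Scheme.IdealSheafData.range_subschemeι]
    exact Big.support_quotMod_subset I₀
  have hH : Module.Finite k (Coh.HH X ((SheafHomX.hom (ClSub.idealMod I₀)).obj (ClSub.quotMod I₀)) 0) :=
    FFun.finite_HH_of_properSupport k hC (SheafHomX.isCoh_hom hM hN) hsupp 0
  obtain ⟨e₀⟩ := ExtShX.exists_hom_HH0 (A := k) ((SheafHomX.hom (ClSub.idealMod I₀)).obj (ClSub.quotMod I₀))
  have hHom : Module.Finite k (ClSub.idealMod I₀ ⟶ ClSub.quotMod I₀) :=
    Module.Finite.equiv (e₀.symm.trans (ExtShX.evLin _ _))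
  let L : TangentSpace (localHilb X x I₀) →ₗ[k] (ClSub.idealMod I₀ ⟶ ClSub.quotMod I₀) :=
    { toFun := fun t => theta x I₀ t.val
      map_add' := fun s t => by
        obtain ⟨z, hz₁, hz₂⟩ : ∃ z : (localHilb X x I₀).obj (Art.dual2 k k),
            (localHilb X x I₀).map Art.pr₁ z = s.val ∧ (localHilb X x I₀).map Art.pr₂ z = t.val := by
          obtain ⟨z, hz⟩ := (heps _ _ Art.isFibreProd_dual2).2
            ⟨(s.val, t.val), h0.2.elim _ _⟩
          exact ⟨z, congrArg (fun w => w.1.1) hz, congrArg (fun w => w.1.2) hz⟩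
        have h := theta_add z
        rw [hz₁, hz₂] at h
        refine Eq.trans (congrArg (theta x I₀) ?_) h
        have h' := T.add_eq z
        rw [hz₁, hz₂] at h'
        exact h'
      map_smul' := fun a t => by
        refine ext_hom fun U s => ?_
        rw [RingHom.id_apply, KLin.smul_app_apply]
        refine Eq.trans ?_ (congrArg (· • (theta x I₀ t.val).app U.1 s) (cst_eq U a))
        exact (congrArg (fun w => (theta x I₀ w).app U.1 s) (T.smul_eq a t.val)).trans
          (theta_smul t.val a U s) }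
  have hfin : Hfin (localHilb X x I₀) := Module.Finite.of_injective L fun s t h => theta_injective h
  exact (Hull.isProrepresentable_iff hk h0).2
    ⟨fun _ _ _ _ _ _ _ _ h hf => (bijective_cmp h hf.1).2, heps, hfin,
      fun _ _ _ _ _ _ h hf => bijective_cmp h hf.1⟩

end Groth.Agent.H9Hilb
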