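import Groth.Agent.H9Hilb.ExtClass
import Groth.Agent.H9Hilb.Smooth
import Groth.Agent.H9Hilb.Tangent
import Groth.Agent.Algz7.PullbackFormal

/-! The obstruction class of a small extension for the local Hilbert functor. -/

set_option autoImplicit false
set_option backward.isDefEq.respectTransparency false
set_option backward.isDefEq.respectTransparency.types false

universe u

open CategoryTheory CategoryTheory.Limits AlgebraicGeometry ArtFun ArtFun.Art Opposite

noncomputable section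

namespace Groth.Agent.H9Hilb

open Groth.Agent.ArtFunLib Groth.Agent.ArtFunLib.HilbAffine Groth.Agent.ArtFunLib.HilbSit
  Groth.Agent.ArtFunLib.HilbMod Groth.Agent.ArtFunLib.HilbIdeal

/-- Local extensions pull back. -/
theorem locExt_pullback {X Y : Scheme.{u}} (i : Y ⟶ X) {SX : ShortComplex X.Modules}
    [(Scheme.Modules.pullback i).Additive] {N : Y.Modules}
    (κ : SX.X₁ ⟶ (Scheme.Modules.pushforward i).obj N)
    (h : ∀ y : Y, ∃ U : X.Opens, i y ∈ U ∧ ∃ θ : (Scheme.Modules.restrictFunctor U.ι).obj SX.X₂ ⟶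
      (Scheme.Modules.restrictFunctor U.ι).obj ((Scheme.Modules.pushforward i).obj N),
        (Scheme.Modules.restrictFunctor U.ι).map SX.f ≫ θ = (Scheme.Modules.restrictFunctor U.ι).map κ) :
    LocExt (SX.map (Scheme.Modules.pullback i))
      (((Scheme.Modules.pullbackPushforwardAdjunction i).homEquiv _ _).symm κ) := by
  intro y
  obtain ⟨U, hyU, θ, hθ⟩ := h y
  let P := Scheme.Modules.pullback i
  let R := Scheme.Modules.restrictFunctor U.ι
  let R' := Scheme.Modules.restrictFunctor (i ⁻¹ᵁ U).ι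
  let e : P ⋙ R' ≅ R ⋙ Scheme.Modules.pullback (i ∣_ U) :=
    Functor.isoWhiskerLeft P (Scheme.Modules.restrictFunctorIsoPullback (i ⁻¹ᵁ U).ι) ≪≫
      Scheme.Modules.pullbackComp (i ⁻¹ᵁ U).ι i ≪≫
      Scheme.Modules.pullbackCongr (morphismRestrict_ι i U).symm ≪≫
      (Scheme.Modules.pullbackComp (i ∣_ U) U.ι).symm ≪≫
      Functor.isoWhiskerRight (Scheme.Modules.restrictFunctorIsoPullback U.ι).symm _
  refine ⟨i ⁻¹ᵁ U, hyU, e.hom.app _ ≫ (Scheme.Modules.pullback (i ∣_ U)).map θ ≫ e.inv.app _ ≫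
    R'.map ((Scheme.Modules.pullbackPushforwardAdjunction i).counit.app N), ?_⟩
  rw [Adjunction.homEquiv_counit]
  show R'.map (P.map SX.f) ≫ _ = R'.map (P.map κ ≫ _)
  rw [Functor.map_comp, ← Category.assoc (R'.map (P.map SX.f)), show R'.map (P.map SX.f) ≫ e.hom.app SX.X₂ =
    e.hom.app SX.X₁ ≫ (Scheme.Modules.pullback (i ∣_ U)).map (R.map SX.f) from e.hom.naturality SX.f,
    Category.assoc, ← Functor.map_comp_assoc, hθ, ← Category.assoc (e.hom.app SX.X₁)]
  have := e.hom.naturality κ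
  rw [show e.hom.app SX.X₁ ≫ (Scheme.Modules.pullback (i ∣_ U)).map (R.map κ) = R'.map (P.map κ) ≫ e.hom.app _
    from this.symm, Category.assoc, Iso.hom_inv_id_app_assoc]

variable {k : Type u} [Field k] {X : Scheme.{u}} [X.Over (Spec (CommRingCat.of k))] {I₀ : X.IdealSheafData}
  [I₀.subscheme.Over (Spec (CommRingCat.of k))]

local notation "x₀" => (X ↘ Spec (CommRingCat.of k))
local notation "Pb" => Scheme.Modules.pullback (Scheme.IdealSheafData.subschemeι I₀)

variable (I₀) in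
/-- The conormal sheaf. -/
abbrev Co : I₀.subscheme.Modules := (Pb).obj (ClSub.idealMod I₀)

theorem pullback_additive : (Pb).Additive :=
  (Scheme.Modules.pullbackPushforwardAdjunction I₀.subschemeι).left_adjoint_additive

/-- The preimage of a point. -/
def pre {B A : Art k k} (p : B ⟶ A) (IA : (localHilb X x₀ I₀).obj A) : (XA x₀ B).IdealSheafData :=
  IA.1.map (XAmap x₀ p)

theorem mem_pre {B A : Art k k} (p : B ⟶ A) (IA : (localHilb X x₀ I₀).obj A) (U : X.affineOpens) :
    (pre p IA).ideal (W x₀ B U) = (IA.1.ideal (W x₀ A U)).comap (pi x₀ p U) :=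
  Ideal.ext fun a => by
    have := isAffineHom_map x₀ p
    exact mem_map_iff (XAmap x₀ p) IA.1 (W x₀ B U) (W x₀ A U) (pi_le x₀ p U) (pi_le x₀ p U).le a

theorem map_pre {B A : Art k k} (p : B ⟶ A) (hp : Function.Surjective p) (IA : (localHilb X x₀ I₀).obj A)
    (U : X.affineOpens) : ((pre p IA).ideal (W x₀ B U)).map (rho x₀ B U) = I₀.ideal U := by
  rw [mem_pre, show rho x₀ B U = (rho x₀ A U).comp (pi x₀ p U) from RingHom.ext fun a => (rho_pi x₀ p U a).symm,
    ← Ideal.map_map, Ideal.map_comap_of_surjective _ (pi_spec x₀ p hp U).1, ← comap_incl_ideal, IA.2.2]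

variable {B A : Art k k} {p : B ⟶ A} (hp : Function.Surjective p) (IA : (localHilb X (X ↘ Spec (CommRingCat.of k)) I₀).obj A)

/-- Reduction to the closed fibre. -/
def phi : G (pre p IA) ⟶ ClSub.idealMod I₀ := (exists_phi (pre p IA) I₀ (map_pre p hp IA)).choose

theorem epi_phi : Epi (phi hp IA) := (exists_phi (pre p IA) I₀ (map_pre p hp IA)).choose_spec.1

theorem phi_spec (U : X.affineOpens) (s : Γ(G (pre p IA), U.1)) :
    OmegaSh.idealSect I₀ U.1 ((phi hp IA).app U.1 s) = rho x₀ B U (el (pre p IA) U s) :=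
  (exists_phi (pre p IA) I₀ (map_pre p hp IA)).choose_spec.2 U s

/-- `K → G → I₀`. -/
abbrev SX : ShortComplex X.Modules :=
  ShortComplex.mk (kernel.ι (phi hp IA)) (phi hp IA) (kernel.condition _)

/-- Its pull-back to the closed subscheme. -/
abbrev SY : ShortComplex I₀.subscheme.Modules :=
  haveI := pullback_additive (I₀ := I₀)
  (SX hp IA).map (Pb)

theorem SY_exact : (SY hp IA).Exact ∧ Epi (SY hp IA).g := by
  haveI := pullback_additive (I₀ := I₀)
  haveI := epi_phi hp IA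
  haveI : (Pb).IsLeftAdjoint := (Scheme.Modules.pullbackPushforwardAdjunction I₀.subschemeι).isLeftAdjoint
  exact ⟨(ShortComplex.exact_of_f_is_kernel (SX hp IA) (kernelIsKernel _)).map_of_epi_of_preservesCokernel
    (Pb) (epi_phi hp IA) inferInstance, (Pb).map_epi (phi hp IA)⟩

theorem rho_el_kernel (U : X.affineOpens) (kk : Γ(kernel (phi hp IA), U.1)) :
    rho x₀ B U (el (pre p IA) U ((kernel.ι (phi hp IA)).app U.1 kk)) = 0 := by
  have e0 : (phi hp IA).app U.1 ((kernel.ι (phi hp IA)).app U.1 kk) = 0 :=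
    congr(($(kernel.condition (phi hp IA))).app U.1 kk)
  rw [← phi_spec hp, e0, map_zero]

/-- The transpose. -/
def tr {N : X.Modules} (κ : N ⟶ ClSub.quotMod I₀) : (Pb).obj N ⟶ Coh.structureModule I₀.subscheme :=
  ((Scheme.Modules.pullbackPushforwardAdjunction I₀.subschemeι).homEquiv _ _).symm κ

theorem tr_comp {N N' : X.Modules} (a : N' ⟶ N) (κ : N ⟶ ClSub.quotMod I₀) :
    tr (a ≫ κ) = (Pb).map a ≫ tr κ :=
  (Scheme.Modules.pullbackPushforwardAdjunction I₀.subschemeι).homEquiv_naturality_left_symm a κ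

/-- The map between the sources for a factorisation. -/
theorem exists_aK {B₁ : Art k k} {p₁ : B₁ ⟶ A} (hp₁ : Function.Surjective p₁) (q : B ⟶ B₁) (hq : q ≫ p₁ = p) :
    ∃ (aG : G (pre p IA) ⟶ G (pre p₁ IA)) (aK : kernel (phi hp IA) ⟶ kernel (phi hp₁ IA)),
      aK ≫ kernel.ι (phi hp₁ IA) = kernel.ι (phi hp IA) ≫ aG ∧ aG ≫ phi hp₁ IA = phi hp IA ∧
      ∀ (U : X.affineOpens) s, el (pre p₁ IA) U (aG.app U.1 s) = pi x₀ q U (el (pre p IA) U s) := by
  have hmem : ∀ (U : X.affineOpens) (s : Γ(G (pre p IA), U.1)), ∃ s', el (pre p₁ IA) U s' = pi x₀ q U (el (pre p IA) U s) :=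
    fun U s => exists_el _ U _ (by
      rw [mem_pre, Ideal.mem_comap, pi_comp, hq, ← Ideal.mem_comap, ← mem_pre]
      exact el_mem _ U s)
  choose f hf using hmem
  obtain ⟨aG, haG⟩ := FamilyHom.exists_hom_of_family (fun U => AddMonoidHom.mk' (f U) fun s s' =>
      el_injective _ U (by simp only [map_add, hf]))
    (fun U V hV s => el_injective _ V (by
      show el _ V ((G (pre p₁ IA)).presheaf.map (homOfLE hV).op (f U s)) = el _ V (f V _)
      rw [el_map _ U V hV, hf, hf, el_map _ U V hV, pi_map x₀ q hV]))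
    (fun U r s => el_injective _ U (by
      show el _ U (f U (r • s)) = el _ U (r • f U s)
      rw [el_smul, hf, hf, el_smul, map_mul, pi_fstPull]))
  have h1 : ∀ (U : X.affineOpens) s, el (pre p₁ IA) U (aG.app U.1 s) = pi x₀ q U (el (pre p IA) U s) :=
    fun U s => (congrArg _ (haG U s)).trans (hf U s)
  have h2 : aG ≫ phi hp₁ IA = phi hp IA := ext_hom fun U s => OmegaLib.idealSect_injective I₀ U.1 (by
    show OmegaSh.idealSect I₀ U.1 ((phi hp₁ IA).app U.1 (aG.app U.1 s)) = _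
    rw [phi_spec, phi_spec, h1, rho_pi])
  exact ⟨aG, kernel.lift _ (kernel.ι (phi hp IA) ≫ aG) (by rw [Category.assoc, h2, kernel.condition]),
    kernel.lift_ι _ _ _, h2, h1⟩

/-- A small extension with a generator of the kernel. -/
structure IsSD (p : B ⟶ A) (t : B) : Prop where
  surj : Function.Surjective p
  ker : RingHom.ker p.toAlgHom.toRingHom = Ideal.span {t}
  ne : t ≠ 0
  mul : IsLocalRing.maximalIdeal B * Ideal.span {t} = ⊥

variable {t : B}

theorem IsSD.rep (hs : IsSD p t) (U : X.affineOpens) (e : Γ(XA x₀ B, (W x₀ B U).1))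
    (he : e ∈ (pre p IA).ideal (W x₀ B U)) (hρ : rho x₀ B U e = 0) : ∃ μ z,
      μ ∈ (IsLocalRing.maximalIdeal B).map (c x₀ B U) * (pre p IA).ideal (W x₀ B U) ∧ e = μ + c x₀ B U t * z := by
  have hIA := flat_quotient x₀ IA.1 IA.2.1 U
  rw [mem_pre] at he
  obtain ⟨μ, hμ, w, hw, e'⟩ := Submodule.mem_sup.1
    (HilbObsRing.inf_ker_le (sit x₀ p hs.surj t hs.ker hs.ne hs.mul U) hIA ⟨he, RingHom.mem_ker.2 hρ⟩)
  obtain ⟨z, rfl⟩ := Ideal.mem_span_singleton'.1 hw
  exact ⟨μ, z, by rw [mem_pre]; exact hμ, e'.symm.trans (by rw [mul_comm z]; rfl)⟩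

theorem IsSD.zero (hs : IsSD p t) (U : X.affineOpens) (z : Γ(XA x₀ B, (W x₀ B U).1))
    (hz : c x₀ B U t * z ∈ (IsLocalRing.maximalIdeal B).map (c x₀ B U) * (pre p IA).ideal (W x₀ B U)) :
    I₀.subschemeι.app U.1 (rho x₀ B U z) = 0 := by
  rw [mem_pre] at hz
  have := HilbObsRing.rho_mem_of_mem_mul (sit x₀ p hs.surj t hs.ker hs.ne hs.mul U)
    (flat_quotient x₀ IA.1 IA.2.1 U) z hz
  have h0 : (IA.1.ideal (W x₀ A U)).map (rho x₀ A U) = I₀.ideal U := by rw [← comap_incl_ideal, IA.2.2]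
  rw [← RingHom.mem_ker, I₀.ker_subschemeι_app, ← h0]
  exact this

theorem IsSD.exists_kappa (hs : IsSD p t) : ∃ κ : kernel (phi hs.surj IA) ⟶ ClSub.quotMod I₀,
    ∀ (U : X.affineOpens) kk, Val (pre p IA) I₀ t U
      (el (pre p IA) U ((kernel.ι (phi hs.surj IA)).app U.1 kk)) (κ.app U.1 kk) := by
  have hex : ∀ (U : X.affineOpens) kk, ∃ v, Val (pre p IA) I₀ t U
      (el (pre p IA) U ((kernel.ι (phi hs.surj IA)).app U.1 kk)) v := fun U kk => by
    obtain ⟨μ, z, hμ, hz⟩ := hs.rep IA U _ (el_mem _ U _) (rho_el_kernel hs.surj IA U kk)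
    exact ⟨_, μ, z, hμ, hz, rfl⟩
  choose κf hκf using hex
  obtain ⟨κ, hκ⟩ := FamilyHom.exists_hom_of_family (fun U => AddMonoidHom.mk' (κf U) fun a b => by
      refine (hκf U (a + b)).unique (hs.zero IA) ?_
      rw [map_add, map_add]
      exact (hκf U a).add (hκf U b))
    (fun U V hV kk => by
      refine Val.unique (hs.zero IA) ?_ (hκf V _)
      rw [app_map, el_map _ U V hV]
      exact (hκf U kk).map hV)
    (fun U r kk => by
      refine (hκf U _).unique (hs.zero IA) ?_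
      rw [Scheme.Modules.Hom.app_smul, el_smul]
      exact (hκf U kk).smul r)
  exact ⟨κ, fun U kk => (hκ U kk).symm ▸ hκf U kk⟩

/-- The values on `m P + t R`. -/
def kappa (hs : IsSD p t) : kernel (phi hs.surj IA) ⟶ ClSub.quotMod I₀ := (hs.exists_kappa IA).choose

theorem kappa_spec (hs : IsSD p t) (U : X.affineOpens) (kk : Γ(kernel (phi hs.surj IA), U.1)) :
    Val (pre p IA) I₀ t U (el (pre p IA) U ((kernel.ι (phi hs.surj IA)).app U.1 kk)) ((kappa IA hs).app U.1 kk) :=
  (hs.exists_kappa IA).choose_spec U kk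

theorem locExt_kappa (hll : LocLifts x₀ I₀) (hs : IsSD p t) : LocExt (SY hs.surj IA) (tr (kappa IA hs)) := by
  haveI := pullback_additive (I₀ := I₀)
  refine locExt_pullback I₀.subschemeι (SX := SX hs.surj IA) (kappa IA hs) fun y => ?_
  obtain ⟨U, hyU, n, f, F, hgen, hFP, hFρ, hrel⟩ := hll p hs.surj IA (pre p IA) (mem_pre p IA) y
  haveI := epi_phi hs.surj IA
  exact ⟨U.1, hyU, exists_local (phi hs.surj IA) (phi_spec hs.surj IA) (map_pre p hs.surj IA) (hs.rep IA)
    (hs.zero IA) (kappa IA hs) (kappa_spec IA hs) U f F hgen hFP hFρ hrel⟩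

/-- The obstruction class. -/
def ob (hll : LocLifts x₀ I₀) (hs : IsSD p t) :
    Coh.HH I₀.subscheme ((SheafHomX.hom (Co I₀)).obj (Coh.structureModule I₀.subscheme)) 1 :=
  cl (SY_exact hs.surj IA).1 (SY_exact hs.surj IA).2 (tr (kappa IA hs)) (locExt_kappa IA hll hs)

end Groth.Agent.H9Hilb
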