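import Groth.Agent.H9Hilb.ObsSmall
import Groth.Agent.H9Hilb.Fibre
import Groth.Agent.ArtFunLib.Basic
import Groth.Prelude.Def_ArtFun3

/-! The obstruction theory of the local Hilbert functor with values in `H¹` of the normal sheaf. -/

set_option autoImplicit false
set_option backward.isDefEq.respectTransparency false
set_option backward.isDefEq.respectTransparency.types false
set_option maxHeartbeats 1000000
set_option synthInstance.maxHeartbeats 100000

universe u

open CategoryTheory CategoryTheory.Limits AlgebraicGeometry ArtFun ArtFun.Art Opposite TensorProduct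

noncomputable section

namespace Groth.Agent.H9Hilb

open Groth.Agent.ArtFunLib Groth.Agent.ArtFunLib.HilbAffine Groth.Agent.ArtFunLib.HilbSit
  Groth.Agent.ArtFunLib.HilbMod Groth.Agent.ArtFunLib.HilbIdeal

variable {k : Type u} [Field k] {X : Scheme.{u}} [X.Over (Spec (CommRingCat.of k))] {I₀ : X.IdealSheafData}
  [I₀.subscheme.Over (Spec (CommRingCat.of k))]
  (hY : I₀.subscheme ↘ Spec (CommRingCat.of k) = I₀.subschemeι ≫ (X ↘ Spec (CommRingCat.of k)))

local notation "x₀" => (X ↘ Spec (CommRingCat.of k))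

section Lin

variable {S : ShortComplex I₀.subscheme.Modules} (hS : S.Exact) (hg : Epi S.g) (N : I₀.subscheme.Modules)

/-- The locally extendable morphisms. -/
def locSub (S : ShortComplex I₀.subscheme.Modules) (N : I₀.subscheme.Modules) : Submodule k (S.X₁ ⟶ N) where
  carrier := {κ | LocExt S κ}
  zero_mem' := fun y => ⟨⊤, trivial, 0, by
    have := restrict_additive (⊤ : I₀.subscheme.Opens)
    rw [comp_zero, Functor.map_zero]⟩
  add_mem' h h' := locExt_add h h'
  smul_mem' r κ h := by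
    have e : r • κ = κ ≫ Formal.smulMod k N r := (KLin.comp_smulModΓ κ _).symm
    rw [Set.mem_setOf_eq, e]
    exact LocExt.comp h _

/-- The class, linearly. -/
def clLin : locSub (k := k) S N →ₗ[k] Coh.HH I₀.subscheme ((SheafHomX.hom S.X₃).obj N) 1 where
  toFun κ := cl hS hg κ.1 κ.2
  map_add' κ κ' := cl_add hS hg κ.1 κ'.1 κ.2 κ'.2 (κ + κ').2
  map_smul' r κ := by
    have e : r • κ.1 = κ.1 ≫ Formal.smulMod k N r := (KLin.comp_smulModΓ κ.1 _).symm
    exact (cl_congr hS hg e (r • κ).2 (LocExt.comp κ.2 _)).trans (cl_smul hS hg κ.1 r κ.2 (LocExt.comp κ.2 _))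

end Lin

include hY in
/-- The transpose is linear. -/
theorem tr_linear {N : X.Modules} : ∃ T : (N ⟶ ClSub.quotMod I₀) →ₗ[k]
    ((Scheme.Modules.pullback I₀.subschemeι).obj N ⟶ Coh.structureModule I₀.subscheme), ∀ κ, T κ = tr κ :=
  ⟨{ toFun := tr
     map_add' := fun f g => by
       have := pullback_additive (I₀ := I₀)
       show ((Scheme.Modules.pullbackPushforwardAdjunction I₀.subschemeι).homEquiv _ _).symm (f + g) = _
       exact ((Scheme.Modules.pullbackPushforwardAdjunction I₀.subschemeι).homAddEquiv _ _).symm.map_add f g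
     map_smul' := fun a f => by
       show ((Scheme.Modules.pullbackPushforwardAdjunction I₀.subschemeι).homEquiv _ _).symm
           (Formal.smulMod k N a ≫ f) = Formal.smulMod k _ a ≫ tr f
       rw [← Groth.Agent.Algz7.pullback_smulMod I₀.subschemeι hY.symm, Adjunction.homEquiv_naturality_left_symm]
       rfl }, fun _ => rfl⟩

variable {B A : Art k k}

/-- Scalars times the generator. -/
theorem algebraMap_res_mul {J : Ideal B} (h : IsLocalRing.maximalIdeal B * J = ⊥) (a : B) {b : B} (hb : b ∈ J) :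
    a * b = algebraMap k B (B.res a) * b := by
  rw [← sub_eq_zero, ← sub_mul, ← Ideal.mem_bot, ← h]
  refine Ideal.mul_mem_mul ?_ hb
  rw [Art.mem_maximalIdeal_iff, map_sub, AlgHom.commutes]
  exact sub_self _

/-- The kernel as a vector space. -/
abbrev Ker (p : B ⟶ A) : Type u := ↥(RingHom.ker p.toAlgHom)

theorem finite_ker (p : B ⟶ A) (hp : Art.IsSemismallExt p) : Module.Finite k (Ker p) := by
  obtain ⟨n, g, hg⟩ := Submodule.fg_iff_exists_fin_generating_family.1
    (IsNoetherian.noetherian (RingHom.ker p.toAlgHom))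
  have hgm : ∀ i, g i ∈ RingHom.ker p.toAlgHom := fun i => hg ▸ Submodule.subset_span (Set.mem_range_self i)
  refine Module.Finite.of_surjective (Fintype.linearCombination k fun i => (⟨g i, hgm i⟩ : Ker p)) fun y => ?_
  obtain ⟨a, ha⟩ := (Submodule.mem_span_range_iff_exists_fun B).1 (hg.symm ▸ y.2 : y.1 ∈ Submodule.span B (Set.range g))
  refine ⟨fun i => B.res (a i), Subtype.ext ?_⟩
  rw [← ha, Fintype.linearCombination_apply, AddSubmonoidClass.coe_finsetSum]
  exact Finset.sum_congr rfl fun i _ =>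
    (Algebra.smul_def (A := B) (B.res (a i)) (g i)).trans (algebraMap_res_mul hp.2 (a i) (hgm i)).symm

/-- The hyperplane opposite to a basis vector. -/
def Kc {p : B ⟶ A} {n : ℕ} (b : Module.Basis (Fin n) k (Ker p)) (i : Fin n) : Ideal B :=
  Ideal.span ((fun j => (b j).1) '' {i}ᶜ)

theorem Kc_le_ker {p : B ⟶ A} {n : ℕ} (b : Module.Basis (Fin n) k (Ker p)) (i : Fin n) :
    Kc b i ≤ RingHom.ker p.toAlgHom := Ideal.span_le.2 (by rintro _ ⟨j, -, rfl⟩; exact (b j).2)

theorem Kc_le_max {p : B ⟶ A} {n : ℕ} (b : Module.Basis (Fin n) k (Ker p)) (i : Fin n) :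
    Kc b i ≤ IsLocalRing.maximalIdeal B :=
  (Kc_le_ker b i).trans (IsLocalRing.le_maximalIdeal (RingHom.ker_ne_top _))

theorem isSD_quot {p : B ⟶ A} (hp : Art.IsSemismallExt p) {n : ℕ} (b : Module.Basis (Fin n) k (Ker p)) (i : Fin n) :
    IsSD (Art.quotFactor (Kc_le_max b i) p (Kc_le_ker b i)) (Art.quotMk B (Kc b i) (Kc_le_max b i) (b i).1) := by
  let q := Art.quotMk B (Kc b i) (Kc_le_max b i)
  have hqp : ∀ a, Art.quotFactor (Kc_le_max b i) p (Kc_le_ker b i) (q a) = p a := fun a => rfl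
  have hqs : Function.Surjective q := Ideal.Quotient.mk_surjective
  have hcl : ∀ z ∈ Kc b i, ∃ v : Ker p, v.1 = z ∧ b.repr v i = 0 := by
    intro z hz
    rw [Kc] at hz
    induction hz using Submodule.span_induction with
    | mem z hz =>
      obtain ⟨j, hj, rfl⟩ := hz
      exact ⟨b j, rfl, by rw [b.repr_self, Finsupp.single_eq_of_ne (Ne.symm hj)]⟩
    | zero => exact ⟨0, rfl, by simp⟩
    | add z w _ _ h h' =>
      obtain ⟨v, rfl, hv⟩ := h
      obtain ⟨v', rfl, hv'⟩ := h'
      exact ⟨v + v', rfl, by simp [hv, hv']⟩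
    | smul a z _ h =>
      obtain ⟨v, rfl, hv⟩ := h
      exact ⟨B.res a • v, (Algebra.smul_def (A := B) _ _).trans (algebraMap_res_mul hp.2 a v.2).symm, by simp [hv]⟩
  refine ⟨fun a => ?_, ?_, fun h0 => ?_, ?_⟩
  · obtain ⟨c, rfl⟩ := hp.1 a
    exact ⟨q c, hqp c⟩
  · refine le_antisymm (fun z hz => ?_) (Ideal.span_le.2 (Set.singleton_subset_iff.2
      (RingHom.mem_ker.2 ((hqp _).trans (RingHom.mem_ker.1 (b i).2)))))
    obtain ⟨z, rfl⟩ := hqs z
    have hzk : z ∈ RingHom.ker p.toAlgHom := RingHom.mem_ker.2 ((hqp z).symm.trans (RingHom.mem_ker.1 hz))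
    have e := congrArg Subtype.val (b.sum_repr ⟨z, hzk⟩)
    rw [AddSubmonoidClass.coe_finsetSum] at e
    rw [show (q.toAlgHom z) = _ from (congrArg q.toAlgHom e).symm, map_sum]
    refine sum_mem fun j _ => ?_
    by_cases hj : j = i
    · subst hj
      rw [show ((b.repr ⟨z, hzk⟩ j • b j : Ker p) : B) = algebraMap k B (b.repr ⟨z, hzk⟩ j) * (b j).1 from
        Algebra.smul_def (A := B) _ _, map_mul]
      exact Ideal.mul_mem_left _ _ (Ideal.mem_span_singleton_self _)
    · have : q ((b.repr ⟨z, hzk⟩ j • b j : Ker p) : B) = 0 := Ideal.Quotient.eq_zero_iff_mem.2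
        (by
          rw [show ((b.repr ⟨z, hzk⟩ j • b j : Ker p) : B) = algebraMap k B (b.repr ⟨z, hzk⟩ j) * (b j).1 from
            Algebra.smul_def (A := B) _ _]
          exact Ideal.mul_mem_left _ _ (Ideal.subset_span ⟨j, hj, rfl⟩))
      rw [this]
      exact zero_mem _
  · obtain ⟨v, hv, hvi⟩ := hcl _ (Ideal.Quotient.eq_zero_iff_mem.1 h0)
    rw [Subtype.ext hv, b.repr_self, Finsupp.single_eq_same] at hvi
    exact one_ne_zero hvi
  · refine eq_bot_iff.2 (Ideal.mul_le.2 fun a ha c hc => ?_)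
    obtain ⟨a, rfl⟩ := hqs a
    obtain ⟨d, rfl⟩ := Ideal.mem_span_singleton'.1 hc
    obtain ⟨d, rfl⟩ := hqs d
    have ham : a ∈ IsLocalRing.maximalIdeal B := by
      rw [Art.mem_maximalIdeal_iff] at ha ⊢
      exact (Art.res_app q a).symm.trans ha
    rw [Submodule.mem_bot, ← map_mul, ← map_mul, show a * (d * (b i).1) = 0 from by
      rw [← Ideal.mem_bot, ← hp.2]; exact Ideal.mul_mem_mul ham (Ideal.mul_mem_left _ _ (b i).2), map_zero]

section General

variable {p : B ⟶ A} (hp : Art.IsSemismallExt p) (IA : (localHilb X (X ↘ Spec (CommRingCat.of k)) I₀).obj A)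

include hp in
theorem exists_decomp {n : ℕ} (b : Module.Basis (Fin n) k (Ker p)) (U : X.affineOpens)
    {e : Γ(XA x₀ B, (W x₀ B U).1)} (he : e ∈ (pre p IA).ideal (W x₀ B U)) (hρ : rho x₀ B U e = 0) :
    ∃ μ, μ ∈ (IsLocalRing.maximalIdeal B).map (c x₀ B U) * (pre p IA).ideal (W x₀ B U) ∧
      ∃ z : Fin n → Γ(XA x₀ B, (W x₀ B U).1), e = μ + ∑ i, c x₀ B U (b i).1 * z i := by
  have hmm : ((IsLocalRing.maximalIdeal B).map (c x₀ B U)).map (pi x₀ p U) =
      (IsLocalRing.maximalIdeal A).map (c x₀ A U) := by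
    rw [Ideal.map_map, show (pi x₀ p U).comp (c x₀ B U) = (c x₀ A U).comp p.toAlgHom.toRingHom from
      RingHom.ext (pi_c x₀ p U), ← Ideal.map_map]
    exact congrArg _ (IsLocalRing.map_maximalIdeal_of_surjective _ hp.1)
  have h1 : pi x₀ p U e ∈ IA.1.ideal (W x₀ A U) ⊓ (IsLocalRing.maximalIdeal A).map (c x₀ A U) :=
    ⟨by rw [mem_pre] at he; exact he, by
      rw [SetLike.mem_coe, ← (rho_spec x₀ A U).2, RingHom.mem_ker, rho_pi, hρ]⟩
  have h2 := HilbRing.inf_map_le (c x₀ A U) (flat_quotient x₀ IA.1 IA.2.1 U) (IsLocalRing.maximalIdeal A) h1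
  rw [← hmm, ← Ideal.map_comap_of_surjective _ (pi_spec x₀ p hp.1 U).1 (IA.1.ideal (W x₀ A U)), ← mem_pre,
    ← Ideal.map_mul] at h2
  obtain ⟨μ, hμ, hμ'⟩ := (Ideal.mem_map_iff_of_surjective _ (pi_spec x₀ p hp.1 U).1).1 h2
  refine ⟨μ, hμ, ?_⟩
  have h3 : e - μ ∈ RingHom.ker (pi x₀ p U) := by rw [RingHom.mem_ker, map_sub, hμ', sub_self]
  rw [(pi_spec x₀ p hp.1 U).2] at h3
  have hsp : RingHom.ker p.toAlgHom.toRingHom ≤ Ideal.span (Set.range fun i => (b i).1) := fun y hy => by
    have e' := congrArg Subtype.val (b.sum_repr ⟨y, hy⟩)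
    rw [AddSubmonoidClass.coe_finsetSum] at e'
    rw [show y = _ from e'.symm]
    refine sum_mem fun j _ => ?_
    rw [show ((b.repr ⟨y, hy⟩ j • b j : Ker p) : B) = algebraMap k B (b.repr ⟨y, hy⟩ j) * (b j).1 from
      Algebra.smul_def (A := B) _ _]
    exact Ideal.mul_mem_left _ _ (Ideal.subset_span ⟨j, rfl⟩)
  have h4 : e - μ ∈ Ideal.span (Set.range fun i => c x₀ B U (b i).1) := by
    have := Ideal.map_mono (f := c x₀ B U) hsp h3
    rwa [Ideal.map_span, ← Set.range_comp] at this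
  obtain ⟨z, hz⟩ := Ideal.mem_span_range_iff_exists_fun.1 h4
  exact ⟨z, by rw [← add_sub_cancel μ e, ← hz]; exact congrArg _ (Finset.sum_congr rfl fun i _ => mul_comm _ _)⟩

/-- The value on the kernel in a small extension under a factorisation. -/
theorem kappa_comp {n : ℕ} (b : Fin n → B) {B₁ : Art k k} {p₁ : B₁ ⟶ A} {t₁ : B₁} (hs : IsSD p₁ t₁)
    (q : B ⟶ B₁) (hq : q ≫ p₁ = p) (lam : Fin n → k) (hlam : ∀ i, q (b i) = algebraMap k B₁ (lam i) * t₁)
    {aG : G (pre p IA) ⟶ G (pre p₁ IA)} {aK : kernel (phi hp.1 IA) ⟶ kernel (phi hs.surj IA)}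
    (h₁ : aK ≫ kernel.ι (phi hs.surj IA) = kernel.ι (phi hp.1 IA) ≫ aG)
    (h₃ : ∀ (U : X.affineOpens) s, el (pre p₁ IA) U (aG.app U.1 s) = pi x₀ q U (el (pre p IA) U s))
    (U : X.affineOpens) (kk : Γ(kernel (phi hp.1 IA), U.1)) (μ : Γ(XA x₀ B, (W x₀ B U).1))
    (z : Fin n → Γ(XA x₀ B, (W x₀ B U).1))
    (hμ : μ ∈ (IsLocalRing.maximalIdeal B).map (c x₀ B U) * (pre p IA).ideal (W x₀ B U))
    (he : el (pre p IA) U ((kernel.ι (phi hp.1 IA)).app U.1 kk) = μ + ∑ i, c x₀ B U (b i) * z i) :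
    (aK ≫ kappa IA hs).app U.1 kk = I₀.subschemeι.app U.1 (∑ i, cst x₀ U (lam i) * rho x₀ B U (z i)) := by
  have hk : (kernel.ι (phi hs.surj IA)).app U.1 (aK.app U.1 kk) = aG.app U.1 ((kernel.ι (phi hp.1 IA)).app U.1 kk) :=
    congr(($h₁).app U.1 kk)
  refine (kappa_spec IA hs U (aK.app U.1 kk)).unique (hs.zero IA) ⟨pi x₀ q U μ,
    ∑ i, c x₀ B₁ U (algebraMap k B₁ (lam i)) * pi x₀ q U (z i), ?_, ?_, ?_⟩
  · have hmap : ((IsLocalRing.maximalIdeal B).map (c x₀ B U) * (pre p IA).ideal (W x₀ B U)).map (pi x₀ q U) ≤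
        (IsLocalRing.maximalIdeal B₁).map (c x₀ B₁ U) * (pre p₁ IA).ideal (W x₀ B₁ U) := by
      rw [Ideal.map_mul]
      refine Ideal.mul_mono ?_ (Ideal.map_le_iff_le_comap.2 fun a ha => ?_)
      · rw [Ideal.map_map, Ideal.map_le_iff_le_comap]
        intro a ha
        show pi x₀ q U (c x₀ B U a) ∈ (IsLocalRing.maximalIdeal B₁).map (c x₀ B₁ U)
        rw [pi_c]
        refine Ideal.mem_map_of_mem (c x₀ B₁ U) ?_
        rw [Art.mem_maximalIdeal_iff] at ha ⊢
        exact (Art.res_app q a).trans ha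
      · rw [mem_pre, Ideal.mem_comap] at ha
        rw [Ideal.mem_comap, mem_pre, Ideal.mem_comap, pi_comp, hq]
        exact ha
    exact hmap (Ideal.mem_map_of_mem _ hμ)
  · rw [hk, h₃, he, map_add, map_sum, Finset.mul_sum]
    refine congrArg _ (Finset.sum_congr rfl fun i _ => ?_)
    rw [map_mul, pi_c, hlam, map_mul]
    ring
  · refine congrArg (I₀.subschemeι.app U.1) ?_
    rw [map_sum]
    refine Finset.sum_congr rfl fun i _ => ?_
    rw [map_mul, rho_c, AlgHom.commutes, rho_pi]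
    rfl

include hY in
/-- The class of any small quotient in terms of the basis. -/
theorem ob_eq_sum (hll : LocLifts x₀ I₀) {n : ℕ} (b : Module.Basis (Fin n) k (Ker p)) {B₁ : Art k k} {p₁ : B₁ ⟶ A}
    {t₁ : B₁} (hs : IsSD p₁ t₁) (q : B ⟶ B₁) (hq : q ≫ p₁ = p) (lam : Fin n → k)
    (hlam : ∀ i, q (b i).1 = algebraMap k B₁ (lam i) * t₁) :
    ob IA hll hs = ∑ i, lam i • ob IA hll (isSD_quot hp b i) := by
  haveI := pullback_additive (I₀ := I₀)
  obtain ⟨T, hT⟩ := tr_linear hY (N := kernel (phi hp.1 IA))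
  have hSY := SY_exact hp.1 IA
  obtain ⟨aG, aK, h₁, h₂, h₃⟩ := exists_aK hp.1 IA hs.surj q hq
  choose aGi aKi h₁i h₂i h₃i using fun i => exists_aK hp.1 IA (isSD_quot hp b i).surj
    (Art.quotMk B (Kc b i) (Kc_le_max b i)) (Art.quotMk_quotFactor _ _ _)
  have hval := fun i U kk μ z hμ he => kappa_comp hp IA (fun j => (b j).1) (isSD_quot hp b i)
    (Art.quotMk B (Kc b i) (Kc_le_max b i)) (Art.quotMk_quotFactor _ _ _) (fun j => if j = i then 1 else 0)
    (fun j => by
      by_cases hj : j = i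
      · rw [if_pos hj, map_one, one_mul, hj]
      · rw [if_neg hj, map_zero, zero_mul]
        exact Ideal.Quotient.eq_zero_iff_mem.2 (Ideal.subset_span ⟨j, hj, rfl⟩))
    (h₁i i) (h₃i i) U kk μ z hμ he
  have hsum : aK ≫ kappa IA hs = ∑ i, lam i • (aKi i ≫ kappa IA (isSD_quot hp b i)) := ext_hom fun U kk => by
    obtain ⟨μ, hμ, z, he⟩ := exists_decomp hp IA b U (el_mem _ U _) (rho_el_kernel hp.1 IA U kk)
    rw [kappa_comp hp IA (fun j => (b j).1) hs q hq lam hlam h₁ h₃ U kk μ z hμ he]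
    let ev : (kernel (phi hp.1 IA) ⟶ ClSub.quotMod I₀) →+ Γ(ClSub.quotMod I₀, U.1) :=
      AddMonoidHom.mk' (fun f => f.app U.1 kk) fun _ _ => rfl
    show _ = ev _
    rw [map_sum, map_sum]
    refine Finset.sum_congr rfl fun i _ => ?_
    show _ = (lam i • (aKi i ≫ kappa IA (isSD_quot hp b i))).app U.1 kk
    rw [KLin.smul_app_apply, ← cst_eq, hval i U kk μ z hμ he]
    simp only [apply_ite (cst x₀ U), map_one, map_zero, ite_mul, one_mul, zero_mul, Finset.sum_ite_eq',
      Finset.mem_univ, if_true]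
    exact map_mul (I₀.subschemeι.app U.1).hom _ _
  have hloc : LocExt (SY hp.1 IA) (tr (aK ≫ kappa IA hs)) ∧
      ∀ i, LocExt (SY hp.1 IA) (tr (aKi i ≫ kappa IA (isSD_quot hp b i))) := by
    refine ⟨?_, fun i => ?_⟩
    · rw [tr_comp]
      exact (locExt_kappa IA hll hs).precomp (SY hp.1 IA) _ ((Scheme.Modules.pullback I₀.subschemeι).map aG)
        (by show _ ≫ (Scheme.Modules.pullback I₀.subschemeι).map _ = (Scheme.Modules.pullback I₀.subschemeι).map _ ≫ _
            rw [← Functor.map_comp, h₁, Functor.map_comp])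
    · rw [tr_comp]
      exact (locExt_kappa IA hll (isSD_quot hp b i)).precomp (SY hp.1 IA) _
        ((Scheme.Modules.pullback I₀.subschemeι).map (aGi i))
        (by show _ ≫ (Scheme.Modules.pullback I₀.subschemeι).map _ = (Scheme.Modules.pullback I₀.subschemeι).map _ ≫ _
            rw [← Functor.map_comp, h₁i i, Functor.map_comp])
  have hmain : ∀ {B₂ : Art k k} {p₂ : B₂ ⟶ A} {t₂ : B₂} (h : IsSD p₂ t₂) (a : G (pre p IA) ⟶ G (pre p₂ IA))
      (aK₂ : kernel (phi hp.1 IA) ⟶ kernel (phi h.surj IA))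
      (e₁ : aK₂ ≫ kernel.ι (phi h.surj IA) = kernel.ι (phi hp.1 IA) ≫ a) (e₂ : a ≫ phi h.surj IA = phi hp.1 IA)
      (h' : LocExt (SY hp.1 IA) (tr (aK₂ ≫ kappa IA h))),
      cl hSY.1 hSY.2 (tr (aK₂ ≫ kappa IA h)) h' = ob IA hll h := by
    intro B₂ p₂ t₂ h a aK₂ e₁ e₂ h'
    have h'' := h'
    rw [tr_comp] at h''
    rw [cl_congr hSY.1 hSY.2 (tr_comp _ _) h' h'']
    exact cl_of_map (SY_exact h.surj IA).1 (SY_exact h.surj IA).2 (tr (kappa IA h)) hSY.1 hSY.2
      ((Scheme.Modules.pullback I₀.subschemeι).map aK₂) ((Scheme.Modules.pullback I₀.subschemeι).map a)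
      (by show (Scheme.Modules.pullback I₀.subschemeι).map _ ≫ (Scheme.Modules.pullback I₀.subschemeι).map _ = _
          rw [← Functor.map_comp, e₁, Functor.map_comp]; try rfl)
      (by show (Scheme.Modules.pullback I₀.subschemeι).map _ ≫ (Scheme.Modules.pullback I₀.subschemeι).map _ = _
          rw [← Functor.map_comp, e₂]) (locExt_kappa IA hll h) h''
  rw [← hmain hs aG aK h₁ h₂ hloc.1]
  simp only [← hmain (isSD_quot hp b _) (aGi _) (aKi _) (h₁i _) (h₂i _) (hloc.2 _)]
  let κi : Fin n → locSub (k := k) (SY hp.1 IA) (Coh.structureModule I₀.subscheme) := fun i => ⟨_, hloc.2 i⟩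
  have e : (⟨tr (aK ≫ kappa IA hs), hloc.1⟩ : locSub (k := k) (SY hp.1 IA) _) = ∑ i, lam i • κi i := Subtype.ext (by
    rw [AddSubmonoidClass.coe_finsetSum]
    refine (hT _).symm.trans ?_
    rw [hsum, map_sum]
    exact Finset.sum_congr rfl fun i _ => by rw [map_smul, hT]; rfl)
  have := congrArg (clLin hSY.1 hSY.2 (Coh.structureModule I₀.subscheme)) e
  rw [map_sum] at this
  simp only [map_smul] at this
  exact this

end General

section Theory

include hY in
theorem ob_eq_zero_of_comp (hll : LocLifts x₀ I₀) {p : B ⟶ A} (hp : Art.IsSemismallExt p) {n : ℕ}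
    (b : Module.Basis (Fin n) k (Ker p)) (IA : (localHilb X (X ↘ Spec (CommRingCat.of k)) I₀).obj A)
    (h0 : ∀ i, ob IA hll (isSD_quot hp b i) = 0) {B₁ : Art k k} {p₁ : B₁ ⟶ A} {t₁ : B₁} (hs : IsSD p₁ t₁)
    (q : B ⟶ B₁) (hq : q ≫ p₁ = p) : ob IA hll hs = 0 := by
  have hl : ∀ i, ∃ lam : k, q (b i).1 = algebraMap k B₁ lam * t₁ := fun i => by
    have h1 : q (b i).1 ∈ RingHom.ker p₁.toAlgHom.toRingHom := RingHom.mem_ker.2
      ((congr($(congrArg Art.Hom.toAlgHom hq) (b i).1)).trans (RingHom.mem_ker.1 (b i).2))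
    rw [hs.ker] at h1
    obtain ⟨a, ha⟩ := Ideal.mem_span_singleton'.1 h1
    exact ⟨B₁.res a, ha.symm.trans (algebraMap_res_mul hs.mul a (Ideal.mem_span_singleton_self t₁))⟩
  choose lam hlam using hl
  rw [ob_eq_sum hY hp IA hll b hs q hq lam hlam]
  exact Finset.sum_eq_zero fun i _ => by rw [h0 i, smul_zero]

/-- A vanishing class gives a lift along a small extension. -/
theorem exists_lift_of_ob (hll : LocLifts x₀ I₀) {p : B ⟶ A} {t : B} (hs : IsSD p t)
    (IA : (localHilb X (X ↘ Spec (CommRingCat.of k)) I₀).obj A) (h0 : ob IA hll hs = 0) :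
    ∃ I : (localHilb X (X ↘ Spec (CommRingCat.of k)) I₀).obj B, I.1.comap (XAmap x₀ p) = IA.1 := by
  haveI := epi_phi hs.surj IA
  haveI := pullback_additive (I₀ := I₀)
  obtain ⟨θ', hθ'⟩ := (cl_eq_zero_iff _ _ _ _).1 h0
  let adj := Scheme.Modules.pullbackPushforwardAdjunction I₀.subschemeι
  let θ : G (pre p IA) ⟶ ClSub.quotMod I₀ := adj.homEquiv _ _ θ'
  have hθ : kernel.ι (phi hs.surj IA) ≫ θ = kappa IA hs := by
    apply (adj.homEquiv _ _).symm.injective
    rw [adj.homEquiv_naturality_left_symm, Equiv.symm_apply_apply]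
    exact hθ'
  obtain ⟨I, hI, -⟩ := exists_point p hs.surj t hs.ker hs.ne hs.mul IA (pre p IA) (mem_pre p IA) θ
    fun U s μ z hμ he => by
      have htm : t ∈ IsLocalRing.maximalIdeal B :=
        ArtFunLib.ker_le_maximalIdeal p (hs.ker.ge (Ideal.mem_span_singleton_self t))
      have hρ0 : rho x₀ B U (el (pre p IA) U s) = 0 := by
        have e1 : ∀ a ∈ (IsLocalRing.maximalIdeal B).map (c x₀ B U), rho x₀ B U a = 0 := fun a ha =>
          RingHom.mem_ker.1 ((rho_spec x₀ B U).2.ge ha)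
        rw [he, map_add, map_mul, e1 μ ((Ideal.mul_le_left : (IsLocalRing.maximalIdeal B).map (c x₀ B U) * (pre p IA).ideal (W x₀ B U) ≤ _) hμ),
          e1 (c x₀ B U t) (Ideal.mem_map_of_mem _ htm), zero_mul, add_zero]
      have hs0 : (phi hs.surj IA).app U.1 s = 0 :=
        OmegaLib.idealSect_injective I₀ U.1 (by rw [phi_spec, hρ0, map_zero])
      have hk := OmegaSh.ι_kerLift (phi hs.surj IA) U.1 s hs0
      have e2 : θ.app U.1 ((kernel.ι (phi hs.surj IA)).app U.1 (OmegaSh.kerLift _ U.1 s hs0)) =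
          (kappa IA hs).app U.1 (OmegaSh.kerLift _ U.1 s hs0) := congr(($hθ).app U.1 _)
      rw [hk] at e2
      exact e2.trans ((kappa_spec IA hs U _).unique (hs.zero IA) ⟨μ, z, hμ, by rw [hk, he], rfl⟩)
  exact ⟨I, hI⟩

/-- A lift kills the class. -/
theorem ob_eq_zero_of_lift (hll : LocLifts x₀ I₀) {p : B ⟶ A} {t : B} (hs : IsSD p t)
    (IA : (localHilb X (X ↘ Spec (CommRingCat.of k)) I₀).obj A)
    (I : (localHilb X (X ↘ Spec (CommRingCat.of k)) I₀).obj B) (hI : I.1.comap (XAmap x₀ p) = IA.1) :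
    ob IA hll hs = 0 := by
  haveI := epi_phi hs.surj IA
  haveI := pullback_additive (I₀ := I₀)
  haveI := isClosedImmersion_map x₀ p hs.surj
  have htm : t ∈ IsLocalRing.maximalIdeal B :=
    ArtFunLib.ker_le_maximalIdeal p (hs.ker.ge (Ideal.mem_span_singleton_self t))
  have hpI : ∀ U, (I.1.ideal (W x₀ B U)).map (pi x₀ p U) = IA.1.ideal (W x₀ A U) := fun U => by
    rw [← comap_map_ideal, hI]
  have hIP : ∀ U, I.1.ideal (W x₀ B U) ≤ (pre p IA).ideal (W x₀ B U) := fun U a ha => by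
    rw [mem_pre, Ideal.mem_comap, ← hpI]; exact Ideal.mem_map_of_mem _ ha
  have huniq : ∀ (U : X.affineOpens) z, c x₀ B U t * z ∈ I.1.ideal (W x₀ B U) →
      I₀.subschemeι.app U.1 (rho x₀ B U z) = 0 := fun U z hz => by
    let R := Γ(XA x₀ B, (W x₀ B U).1)
    let J := I.1.ideal (W x₀ B U)
    letI : Algebra B (R ⧸ J) := ((Ideal.Quotient.mk J).comp (c x₀ B U)).toAlgebra
    haveI : Module.Flat B (R ⧸ J) := flat_quotient x₀ I.1 I.2.1 U
    have h1 : t • (Ideal.Quotient.mk J z) = 0 := by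
      show Ideal.Quotient.mk J (c x₀ B U t) * Ideal.Quotient.mk J z = 0
      rw [← map_mul]; exact Ideal.Quotient.eq_zero_iff_mem.2 hz
    obtain ⟨κ', a, y, hxy, hay⟩ := Module.Flat.isTrivialRelation_of_sum_smul_eq_zero
      (f := fun _ : Fin 1 => t) (x := fun _ : Fin 1 => Ideal.Quotient.mk J z) (by simpa using h1)
    have ha : ∀ l, a 0 l ∈ IsLocalRing.maximalIdeal B := fun l => by
      by_contra hna
      have h2 : t * a 0 l = 0 := by simpa using hay l
      exact hs.ne (by rwa [(IsLocalRing.notMem_maximalIdeal.1 hna).mul_left_eq_zero] at h2)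
    have h3 : Ideal.Quotient.mk J z ∈ ((IsLocalRing.maximalIdeal B).map (c x₀ B U)).map (Ideal.Quotient.mk J) := by
      rw [show Ideal.Quotient.mk J z = _ from hxy 0]
      exact sum_mem fun l _ => Ideal.mul_mem_right _ _ (Ideal.mem_map_of_mem _ (Ideal.mem_map_of_mem _ (ha l)))
    obtain ⟨w, hw, hwz⟩ := (Ideal.mem_map_iff_of_surjective _ Ideal.Quotient.mk_surjective).1 h3
    rw [← (rho_spec x₀ B U).2, RingHom.mem_ker] at hw
    have h4 := Ideal.mem_map_of_mem (rho x₀ B U) (Ideal.Quotient.eq.1 hwz.symm)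
    rw [map_sub, hw, sub_zero] at h4
    rw [← RingHom.mem_ker, I₀.ker_subschemeι_app, ← I.2.2, comap_incl_ideal]
    exact h4
  have hex : ∀ (U : X.affineOpens) (s : Γ(G (pre p IA), U.1)), ∃ v, ∃ z,
      el (pre p IA) U s - c x₀ B U t * z ∈ I.1.ideal (W x₀ B U) ∧ v = I₀.subschemeι.app U.1 (rho x₀ B U z) := fun U s => by
    have h := el_mem (pre p IA) U s
    rw [mem_pre, Ideal.mem_comap, ← hpI] at h
    obtain ⟨e, he, he'⟩ := (Ideal.mem_map_iff_of_surjective _ (pi_spec x₀ p hs.surj U).1).1 h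
    have h2 : el (pre p IA) U s - e ∈ RingHom.ker (pi x₀ p U) := by rw [RingHom.mem_ker, map_sub, he', sub_self]
    rw [(pi_spec x₀ p hs.surj U).2, hs.ker, Ideal.map_span, Set.image_singleton, Ideal.mem_span_singleton'] at h2
    obtain ⟨z, hz⟩ := h2
    exact ⟨_, z, by rw [mul_comm, hz, sub_sub_cancel]; exact he, rfl⟩
  have hun : ∀ (U : X.affineOpens) (e : Γ(XA x₀ B, (W x₀ B U).1)) z z', e - c x₀ B U t * z ∈ I.1.ideal (W x₀ B U) →
      e - c x₀ B U t * z' ∈ I.1.ideal (W x₀ B U) →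
      I₀.subschemeι.app U.1 (rho x₀ B U z) = I₀.subschemeι.app U.1 (rho x₀ B U z') := fun U e z z' h h' => by
    have := huniq U (z - z') (by
      have h'' := sub_mem h' h
      rwa [sub_sub_sub_cancel_left, ← mul_sub] at h'')
    rw [map_sub] at this
    exact sub_eq_zero.1 ((map_sub (I₀.subschemeι.app U.1).hom _ _).symm.trans this)
  choose f z hfz hf using hex
  obtain ⟨θ, hθ⟩ := FamilyHom.exists_hom_of_family (M := G (pre p IA)) (N := ClSub.quotMod I₀) (fun U => AddMonoidHom.mk' (f U) fun s s' => by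
      rw [hf, hf, hf]
      refine (hun U (el (pre p IA) U (s + s')) _ (z U s + z U s') (hfz U _) ?_).trans ?_
      · have := add_mem (hfz U s) (hfz U s')
        rw [map_add, mul_add]
        rwa [add_sub_add_comm]
      · rw [map_add]; exact map_add (I₀.subschemeι.app U.1).hom _ _)
    (fun U V hV s => by
      show (ClSub.quotMod I₀).presheaf.map (homOfLE hV).op (f U s) = f V _
      rw [hf U, hf V]
      refine (congr($(I₀.subschemeι.naturality (homOfLE hV).op) (rho x₀ B U (z U s)))).symm.trans ?_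
      show I₀.subschemeι.app V.1 (X.presheaf.map (homOfLE hV).op (rho x₀ B U (z U s))) = _
      rw [← rho_map x₀ B hV]
      refine hun V (el (pre p IA) V ((G (pre p IA)).presheaf.map (homOfLE hV).op s)) _ _ ?_ (hfz V _)
      rw [el_map _ U V hV, ← c_map x₀ B hV, ← map_mul, ← map_sub]
      exact Ideal.mem_comap.1 (I.1.ideal_le_comap_ideal (U := W x₀ B V) (V := W x₀ B U) (W_mono x₀ B hV) (hfz U s)))
    (fun U r s => by
      show f U (r • s) = r • (show Γ(ClSub.quotMod I₀, U.1) from f U s)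
      rw [hf, hf]
      refine (hun U (el (pre p IA) U (r • s)) _ (fstPull x₀ B U r * z U s) (hfz U _) ?_).trans ?_
      · rw [el_smul, show fstPull x₀ B U r * el (pre p IA) U s - c x₀ B U t * (fstPull x₀ B U r * z U s) =
            fstPull x₀ B U r * (el (pre p IA) U s - c x₀ B U t * z U s) by ring]
        exact Ideal.mul_mem_left _ _ (hfz U s)
      · rw [map_mul, rho_fst]
        exact map_mul (I₀.subschemeι.app U.1).hom _ _)
  have hκ : kernel.ι (phi hs.surj IA) ≫ θ = kappa IA hs := ext_hom fun U kk => by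
    show θ.app U.1 ((kernel.ι (phi hs.surj IA)).app U.1 kk) = _
    obtain ⟨μ, w, hμ, he, hv⟩ := kappa_spec IA hs U kk
    rw [hθ, hv]
    refine (hf U _).trans (hun U (el (pre p IA) U ((kernel.ι (phi hs.surj IA)).app U.1 kk)) _ _ (hfz U _) ?_)
    rw [he, add_sub_cancel_right]
    refine (Ideal.mul_le.2 fun a ha e he => ?_ : (IsLocalRing.maximalIdeal B).map (c x₀ B U) * (pre p IA).ideal (W x₀ B U) ≤ I.1.ideal (W x₀ B U)) hμ
    have h := he
    rw [mem_pre, Ideal.mem_comap, ← hpI] at h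
    obtain ⟨e', he', hee⟩ := (Ideal.mem_map_iff_of_surjective _ (pi_spec x₀ p hs.surj U).1).1 h
    have h2 : e - e' ∈ RingHom.ker (pi x₀ p U) := by rw [RingHom.mem_ker, map_sub, hee, sub_self]
    rw [(pi_spec x₀ p hs.surj U).2, hs.ker, Ideal.map_span, Set.image_singleton, Ideal.mem_span_singleton'] at h2
    obtain ⟨w', hw'⟩ := h2
    have hzero : a * c x₀ B U t = 0 := by
      rw [← Ideal.mem_bot, ← Ideal.map_bot (f := c x₀ B U), ← hs.mul, Ideal.map_mul]
      exact Ideal.mul_mem_mul ha (Ideal.mem_map_of_mem _ (Ideal.mem_span_singleton_self t))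
    rw [show a * e = a * e' + w' * (a * c x₀ B U t) by linear_combination (-a) * hw', hzero, mul_zero, add_zero]
    exact Ideal.mul_mem_left _ _ he'
  refine (cl_eq_zero_iff _ _ _ _).2 ⟨tr θ, ?_⟩
  rw [← hκ]
  exact (tr_comp _ _).symm

include hY in
theorem exists_lift_of_all (hll : LocLifts x₀ I₀) : ∀ (n : ℕ) {B A : Art k k} (p : B ⟶ A) (_ : Art.IsSemismallExt p)
    (IA : (localHilb X (X ↘ Spec (CommRingCat.of k)) I₀).obj A), Module.finrank k (Ker p) ≤ n →
    (∀ {B₁ : Art k k} {p₁ : B₁ ⟶ A} {t₁ : B₁} (hs : IsSD p₁ t₁) (q : B ⟶ B₁), q ≫ p₁ = p → ob IA hll hs = 0) →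
    ∃ I : (localHilb X (X ↘ Spec (CommRingCat.of k)) I₀).obj B,
      (localHilb X (X ↘ Spec (CommRingCat.of k)) I₀).map p I = IA := by
  intro n
  induction n with
  | zero =>
    intro B A p hp IA hn _
    haveI := finite_ker p hp
    haveI : Subsingleton (Ker p) := Module.finrank_zero_iff.1 (Nat.le_zero.1 hn)
    haveI : IsIso p := ArtFunLib.isIso_of_bijective p ⟨(injective_iff_map_eq_zero _).2 fun a ha =>
      congrArg Subtype.val (Subsingleton.elim (⟨a, ha⟩ : Ker p) 0), hp.1⟩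
    exact ((isIso_iff_bijective _).1 (inferInstance : IsIso ((localHilb X (X ↘ Spec (CommRingCat.of k)) I₀).map p))).2 IA
  | succ n ih =>
    intro B A p hp IA hn h0
    haveI := finite_ker p hp
    rcases Nat.eq_zero_or_pos (Module.finrank k (Ker p)) with hz | hpos
    · exact ih p hp IA (by omega) h0
    let b := Module.finBasis k (Ker p)
    let i : Fin (Module.finrank k (Ker p)) := ⟨0, hpos⟩
    let K : Ideal B := Ideal.span {(b i).1}
    have hKp : K ≤ RingHom.ker p.toAlgHom := Ideal.span_le.2 (Set.singleton_subset_iff.2 (b i).2)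
    have hKm : K ≤ IsLocalRing.maximalIdeal B := hKp.trans (IsLocalRing.le_maximalIdeal (RingHom.ker_ne_top _))
    let pK := Art.quotFactor hKm p hKp
    let qK := Art.quotMk B K hKm
    have hqs : Function.Surjective qK := Ideal.Quotient.mk_surjective
    have hpK : Art.IsSemismallExt pK := by
      refine ⟨fun a => ?_, eq_bot_iff.2 (Ideal.mul_le.2 fun a ha d hd => ?_)⟩
      · obtain ⟨c, rfl⟩ := hp.1 a
        exact ⟨qK c, rfl⟩
      · obtain ⟨a, rfl⟩ := hqs a
        obtain ⟨d, rfl⟩ := hqs d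
        have ham : a ∈ IsLocalRing.maximalIdeal B := by
          rw [Art.mem_maximalIdeal_iff] at ha ⊢
          exact (Art.res_app qK a).symm.trans ha
        rw [Submodule.mem_bot, ← map_mul, show a * d = 0 from by
          rw [← Ideal.mem_bot, ← hp.2]; exact Ideal.mul_mem_mul ham (RingHom.mem_ker.2 (RingHom.mem_ker.1 hd)), map_zero]
    haveI := finite_ker pK hpK
    have hlt : Module.finrank k (Ker pK) ≤ n := by
      let π : Ker p →ₗ[k] Ker pK := (Art.kerToQuot hKm p hKp).restrictScalars k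
      have hπ : Function.Surjective π := fun y => by
        obtain ⟨c, hc⟩ := hqs y.1
        refine ⟨⟨c, RingHom.mem_ker.2 ?_⟩, Subtype.ext hc⟩
        exact (congrArg pK hc).trans (RingHom.mem_ker.1 y.2)
      have h1 := LinearMap.finrank_range_add_finrank_ker π
      rw [LinearMap.range_eq_top.2 hπ, finrank_top] at h1
      have h2 : 0 < Module.finrank k (LinearMap.ker π) := by
        rw [Module.finrank_pos_iff]
        refine ⟨⟨⟨b i, ?_⟩, 0, fun h => b.ne_zero i (congrArg Subtype.val h)⟩⟩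
        exact Subtype.ext (Ideal.Quotient.eq_zero_iff_mem.2 (Ideal.mem_span_singleton_self _))
      omega
    obtain ⟨I', hI'⟩ := ih pK hpK IA hlt fun hs q hq => h0 hs (qK ≫ q) (by
      rw [Category.assoc, hq]; exact Art.quotMk_quotFactor _ _ _)
    obtain ⟨I'', hI''⟩ := exists_lift_of_ob hll (isSD_quot hp b i) IA
      (h0 _ _ (Art.quotMk_quotFactor _ _ _))
    have hfib : Art.IsFibreProd qK (Art.quotMk B (Kc b i) (Kc_le_max b i)) pK
        (Art.quotFactor (Kc_le_max b i) p (Kc_le_ker b i)) := by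
      have hcl : ∀ z ∈ Kc b i, ∃ v : Ker p, v.1 = z ∧ b.repr v i = 0 := fun z hz => by
        rw [Kc] at hz
        induction hz using Submodule.span_induction with
        | mem z hz =>
          obtain ⟨j, hj, rfl⟩ := hz
          exact ⟨b j, rfl, by rw [b.repr_self, Finsupp.single_eq_of_ne (Ne.symm hj)]⟩
        | zero => exact ⟨0, rfl, by simp⟩
        | add z w _ _ h h' =>
          obtain ⟨v, rfl, hv⟩ := h
          obtain ⟨v', rfl, hv'⟩ := h'
          exact ⟨v + v', rfl, by simp [hv, hv']⟩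
        | smul a z _ h =>
          obtain ⟨v, rfl, hv⟩ := h
          exact ⟨B.res a • v, (Algebra.smul_def (A := B) _ _).trans (algebraMap_res_mul hp.2 a v.2).symm, by simp [hv]⟩
      refine ⟨by rw [Art.quotMk_quotFactor, Art.quotMk_quotFactor], fun c₁ c₂ e₁ e₂ => ?_, fun a' a'' e => ?_⟩
      · obtain ⟨v, hv, hvi⟩ := hcl _ (Ideal.Quotient.eq.1 e₂)
        obtain ⟨a, ha⟩ := Ideal.mem_span_singleton'.1 (Ideal.Quotient.eq.1 e₁ : c₁ - c₂ ∈ K)
        have hv' : v = B.res a • b i := Subtype.ext (hv.trans (ha.symm.trans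
          ((algebraMap_res_mul hp.2 a (b i).2).trans (Algebra.smul_def (A := B) _ _).symm)))
        rw [hv', map_smul, Finsupp.smul_apply, b.repr_self, Finsupp.single_eq_same, smul_eq_mul, mul_one] at hvi
        rw [← sub_eq_zero, ← hv, hv', hvi, zero_smul]
        rfl
      · obtain ⟨c', rfl⟩ := hqs a'
        obtain ⟨c'', rfl⟩ := Ideal.Quotient.mk_surjective a''
        have hd : c' - c'' ∈ RingHom.ker p.toAlgHom := by
          rw [RingHom.mem_ker, map_sub, sub_eq_zero]
          exact e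
        let d : Ker p := ⟨c' - c'', hd⟩
        refine ⟨c' - ((b.repr d i • b i : Ker p) : B), ?_, ?_⟩
        · refine Ideal.Quotient.eq.2 ?_
          rw [show c' - ((b.repr d i • b i : Ker p) : B) - c' = -((b.repr d i • b i : Ker p) : B) by ring, neg_mem_iff,
            show ((b.repr d i • b i : Ker p) : B) = algebraMap k B (b.repr d i) * (b i).1 from Algebra.smul_def (A := B) _ _]
          exact Ideal.mul_mem_left _ _ (Ideal.mem_span_singleton_self _)
        · refine Ideal.Quotient.eq.2 ?_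
          have e' := congrArg Subtype.val (b.sum_repr d)
          rw [AddSubmonoidClass.coe_finsetSum, ← Finset.add_sum_erase _ _ (Finset.mem_univ i)] at e'
          rw [sub_right_comm, show c' - c'' = _ from e'.symm, add_sub_cancel_left]
          refine sum_mem fun j hj => ?_
          rw [show ((b.repr d j • b j : Ker p) : B) = algebraMap k B (b.repr d j) * (b j).1 from Algebra.smul_def (A := B) _ _]
          exact Ideal.mul_mem_left _ _ (Ideal.subset_span ⟨j, Finset.ne_of_mem_erase hj, rfl⟩)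
    obtain ⟨J, hJ⟩ := (bijective_cmp (x := x₀) (I₀ := I₀) hfib (isSD_quot hp b i).surj).2
      ⟨(I', I''), hI'.trans (Subtype.ext hI'').symm⟩
    refine ⟨J, ?_⟩
    have e : (localHilb X (X ↘ Spec (CommRingCat.of k)) I₀).map qK J = I' := congrArg (fun w => w.1.1) hJ
    rw [show p = qK ≫ pK from (Art.quotMk_quotFactor _ _ _).symm, Functor.map_comp, ← hI', ← e]
    rfl

variable (I₀) in
/-- The obstruction space. -/
abbrev ObSpace : Type u :=
  Coh.HH I₀.subscheme ((SheafHomX.hom (Co I₀)).obj (Coh.structureModule I₀.subscheme)) 1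

/-- The obstruction tensor. -/
def obsVal (hll : LocLifts x₀ I₀) {p : B ⟶ A} (hp : Art.IsSemismallExt p)
    (IA : (localHilb X (X ↘ Spec (CommRingCat.of k)) I₀).obj A) : ObSpace I₀ ⊗[k] Ker p :=
  haveI := finite_ker p hp
  ∑ i, ob IA hll (isSD_quot hp (Module.finBasis k (Ker p)) i) ⊗ₜ[k] Module.finBasis k (Ker p) i

include hY in
theorem exists_obsTheory (hll : LocLifts x₀ I₀) :
    HasObsTheory (localHilb X (X ↘ Spec (CommRingCat.of k)) I₀) (ObSpace I₀) := by
  refine ⟨{ obs := fun {B A} p hp IA => obsVal hll hp IA, obs_eq_zero_iff := fun {B A} p hp IA => ?_,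
            obs_quot := fun {B A} p hp K hK hKJ hq IA => ?_ }⟩
  · haveI := finite_ker p hp
    let b := Module.finBasis k (Ker p)
    constructor
    · intro h
      have hi : ∀ i, ob IA hll (isSD_quot hp b i) = 0 := fun i => by
        have h' := congrArg (fun w => TensorProduct.rid k _ (LinearMap.lTensor _ (b.coord i) w)) h
        simpa [obsVal, b, map_sum, Finsupp.single_apply] using h'
      exact exists_lift_of_all hY hll _ p hp IA le_rfl fun hs q hq => ob_eq_zero_of_comp hY hll hp b IA hi hs q hq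
    · rintro ⟨I, hI⟩
      refine Finset.sum_eq_zero fun i _ => ?_
      rw [ob_eq_zero_of_lift hll (isSD_quot hp b i) IA
        ((localHilb X (X ↘ Spec (CommRingCat.of k)) I₀).map (Art.quotMk B (Kc b i) (Kc_le_max b i)) I), zero_tmul]
      rw [← Art.quotMk_quotFactor (Kc_le_max b i) p (Kc_le_ker b i), Functor.map_comp] at hI
      exact congrArg Subtype.val hI
  · haveI := finite_ker p hp
    haveI := finite_ker _ hq
    let b := Module.finBasis k (Ker p)
    let b' := Module.finBasis k (Ker (Art.quotFactor hK p hKJ))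
    let π : Ker p →ₗ[k] Ker (Art.quotFactor hK p hKJ) := (Art.kerToQuot hK p hKJ).restrictScalars k
    show ∑ j, ob IA hll (isSD_quot hq b' j) ⊗ₜ[k] b' j = LinearMap.lTensor _ π (∑ i, ob IA hll (isSD_quot hp b i) ⊗ₜ[k] b i)
    have hj : ∀ j, ob IA hll (isSD_quot hq b' j) = ∑ i, b'.repr (π (b i)) j • ob IA hll (isSD_quot hp b i) := fun j => by
      refine ob_eq_sum hY hp IA hll b _ (Art.quotMk B K hK ≫ Art.quotMk _ (Kc b' j) (Kc_le_max b' j)) ?_ _ fun i => ?_
      · rw [Category.assoc, Art.quotMk_quotFactor, Art.quotMk_quotFactor]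
      · show Art.quotMk _ (Kc b' j) (Kc_le_max b' j) (π (b i)).1 = _
        have e := congrArg Subtype.val (b'.sum_repr (π (b i)))
        rw [AddSubmonoidClass.coe_finsetSum] at e
        rw [← e, map_sum, Finset.sum_eq_single j]
        · rw [show ((b'.repr (π (b i)) j • b' j : Ker _) : Art.quot B K hK) =
            algebraMap k _ (b'.repr (π (b i)) j) * (b' j).1 from Algebra.smul_def _ _, map_mul, AlgHom.commutes]
        · intro l _ hl
          rw [show ((b'.repr (π (b i)) l • b' l : Ker _) : Art.quot B K hK) =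
            algebraMap k _ (b'.repr (π (b i)) l) * (b' l).1 from Algebra.smul_def _ _]
          exact Ideal.Quotient.eq_zero_iff_mem.2 (Ideal.mul_mem_left _ _ (Ideal.subset_span ⟨l, hl, rfl⟩))
        · intro h; exact absurd (Finset.mem_univ j) h
    simp only [map_sum, LinearMap.lTensor_tmul, hj, sum_tmul, smul_tmul]
    rw [Finset.sum_comm]
    refine Finset.sum_congr rfl fun i _ => ?_
    rw [← tmul_sum, b'.sum_repr]

end Theory

end Groth.Agent.H9Hilb
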