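import Groth.Agent.H9Hilb.Smooth
import Groth.Agent.H9Hilb.Tangent

/-! Every homomorphism `I₀ → O/I₀` is the tangent vector of a first order deformation. -/

set_option autoImplicit false
set_option backward.isDefEq.respectTransparency false
set_option backward.isDefEq.respectTransparency.types false

universe u

open CategoryTheory CategoryTheory.Limits AlgebraicGeometry ArtFun ArtFun.Art Opposite TrivSqZeroExt

noncomputable section

namespace Groth.Agent.H9Hilb

open Groth.Agent.ArtFunLib Groth.Agent.ArtFunLib.HilbAffine Groth.Agent.ArtFunLib.HilbSit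
  Groth.Agent.ArtFunLib.HilbMod Groth.Agent.ArtFunLib.HilbIdeal
open Groth.Agent.H9DefAut (eps)

variable {k : Type u} [Field k] {X : Scheme.{u}} {x : X ⟶ specPt k} {I₀ : X.IdealSheafData}

theorem theta_surjective : Function.Surjective (theta x I₀) := by
  intro δ
  let B : Art k k := Art.dual k k
  let t : B := eps
  obtain ⟨J⟩ := (h0_localHilb (x := x) (I₀ := I₀)).1
  let p : B ⟶ Art.base k k := Art.homMk B.res (AlgHom.id_comp _)
  have hsur : Function.Surjective p := B.res_surjective
  have hkt : RingHom.ker p.toAlgHom.toRingHom = Ideal.span {t} :=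
    (IsLocalRing.eq_maximalIdeal (RingHom.ker_isMaximal_of_surjective B.res.toRingHom B.res_surjective)).trans
      H9DefAut.maximalIdeal_dual
  have ht0 : t ≠ 0 := fun h => one_ne_zero (α := k) (congrArg TrivSqZeroExt.snd h)
  have hm0 : IsLocalRing.maximalIdeal B * Ideal.span {t} = ⊥ := by
    rw [← le_bot_iff, Ideal.mul_le]
    intro a ha b hb
    rw [Submodule.mem_bot]
    refine H9DefAut.mul_eq_zero_dual ha ?_
    rw [H9DefAut.maximalIdeal_dual]
    exact hb
  have hJ : ∀ U, J.1.ideal (W x (Art.base k k) U) = (I₀.ideal U).comap (rho x (Art.base k k) U) := fun U => by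
    refine Eq.trans ?_ (congrArg (Ideal.comap (rho x (Art.base k k) U))
      ((comap_incl_ideal x J.1 U).symm.trans (congrArg (fun K => K.ideal U) J.2.2)))
    rw [Ideal.comap_map_of_bijective]
    refine ⟨(RingHom.injective_iff_ker_eq_bot _).2 ?_, (rho_spec x _ U).1⟩
    rw [(rho_spec x _ U).2, show IsLocalRing.maximalIdeal (Art.base k k) = ⊥ from
      (IsLocalRing.eq_maximalIdeal (Ideal.bot_isMaximal (K := k))).symm, Ideal.map_bot]
  haveI := isClosedImmersion_map x p hsur
  obtain ⟨P, hP⟩ : ∃ P : (XA x B).IdealSheafData,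
      ∀ U, P.ideal (W x B U) = (J.1.ideal (W x (Art.base k k) U)).comap (pi x p U) :=
    ⟨J.1.map (XAmap x p), fun U => Ideal.ext fun a =>
      mem_map_iff (XAmap x p) J.1 (W x B U) (W x _ U) (pi_le x p U) (pi_le x p U).le a⟩
  have hPr : ∀ U a, a ∈ P.ideal (W x B U) ↔ rho x B U a ∈ I₀.ideal U := fun U a => by
    rw [hP, hJ, Ideal.mem_comap, Ideal.mem_comap, rho_pi]
  have h0 : ∀ U, (P.ideal (W x B U)).map (rho x B U) = I₀.ideal U := fun U => by
    rw [show P.ideal (W x B U) = (I₀.ideal U).comap (rho x B U) from Ideal.ext (hPr U),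
      Ideal.map_comap_of_surjective _ (rho_spec x B U).1]
  obtain ⟨φ, hepi, hφ⟩ := exists_phi P I₀ h0
  have hker : ∀ U a, rho x B U a = 0 → ∃ z, a = c x B U t * z := fun U a ha => by
    rw [← RingHom.mem_ker, (rho_spec x B U).2, H9DefAut.maximalIdeal_dual, Ideal.map_span, Set.image_singleton,
      Ideal.mem_span_singleton] at ha
    exact ha
  have hmm : ∀ U, ∀ μ ∈ (IsLocalRing.maximalIdeal B).map (c x B U) * P.ideal (W x B U),
      ∃ z, μ = c x B U t * z ∧ rho x B U z ∈ I₀.ideal U := fun U μ hμ => by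
    rw [H9DefAut.maximalIdeal_dual, Ideal.map_span, Set.image_singleton, Ideal.mem_span_singleton_mul] at hμ
    obtain ⟨z, hz, rfl⟩ := hμ
    exact ⟨z, rfl, (hPr U z).1 hz⟩
  have hJf : ∀ U, ((Ideal.Quotient.mk (J.1.ideal (W x (Art.base k k) U))).comp (c x _ U)).Flat :=
    fun U => flat_quotient x J.1 J.2.1 U
  have hzero : ∀ U z, c x B U t * z ∈ (IsLocalRing.maximalIdeal B).map (c x B U) * P.ideal (W x B U) →
      I₀.subschemeι.app U.1 (rho x B U z) = 0 := fun U z hz => by
    rw [hP] at hz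
    have := HilbObsRing.rho_mem_of_mem_mul (sit x p hsur t hkt ht0 hm0 U) (hJf U) z hz
    rw [← RingHom.mem_ker, I₀.ker_subschemeι_app]
    exact ((comap_incl_ideal x J.1 U).symm.trans (congrArg (fun K => K.ideal U) J.2.2)).le this
  have hex : ∀ (U : X.affineOpens) (s : Γ(G P, U.1)),
      ∃ v, Val P I₀ t U (el P U s - fstPull x B U (rho x B U (el P U s))) v := fun U s => by
    obtain ⟨z, hz⟩ := hker U (el P U s - fstPull x B U (rho x B U (el P U s))) (by rw [map_sub, rho_fst, sub_self])
    exact ⟨_, 0, z, zero_mem _, hz.trans (zero_add _).symm, rfl⟩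
  choose f hf using hex
  obtain ⟨θ₀, hθ₀⟩ := FamilyHom.exists_hom_of_family (fun U => AddMonoidHom.mk' (f U) fun a b => by
      refine (hf U (a + b)).unique hzero ?_
      rw [map_add, map_add, map_add, add_sub_add_comm]
      exact (hf U a).add (hf U b))
    (fun U V hV s => by
      refine Val.unique hzero ?_ (hf V _)
      rw [el_map P U V hV, rho_map x B hV, ← fstPull_map x B hV, ← map_sub]
      exact (hf U s).map hV)
    (fun U r s => by
      refine (hf U _).unique hzero ?_
      rw [el_smul, map_mul, rho_fst, map_mul, ← mul_sub]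
      exact (hf U s).smul r)
  have hval : ∀ (U : X.affineOpens) s μ z, μ ∈ (IsLocalRing.maximalIdeal B).map (c x B U) * P.ideal (W x B U) →
      el P U s = μ + c x B U t * z → rho x B U (el P U s) = 0 ∧
      θ₀.app U.1 s = I₀.subschemeι.app U.1 (rho x B U z) := fun U s μ z hμ he => by
    have hρt : rho x B U (c x B U t) = 0 := by
      rw [← RingHom.mem_ker, (rho_spec x B U).2]
      exact Ideal.mem_map_of_mem _ H9DefAut.eps_mem
    have h1 : rho x B U (el P U s) = 0 := by
      obtain ⟨w, rfl, -⟩ := hmm U μ hμ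
      rw [he, map_add, map_mul, map_mul, hρt, zero_mul, zero_mul, add_zero]
    refine ⟨h1, (hθ₀ U s).trans ((hf U s).unique hzero ⟨μ, z, hμ, ?_, rfl⟩)⟩
    rw [h1, map_zero, sub_zero, he]
  obtain ⟨I, -, hI⟩ := exists_point p hsur t hkt ht0 hm0 J P hP (θ₀ - φ ≫ δ) fun U s μ z hμ he => by
    obtain ⟨h1, h2⟩ := hval U s μ z hμ he
    have hs0 : φ.app U.1 s = 0 := OmegaLib.idealSect_injective I₀ U.1 (by rw [hφ, h1, map_zero])
    show θ₀.app U.1 s - δ.app U.1 (φ.app U.1 s) = _
    rw [hs0, map_zero, sub_zero, h2]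
  refine ⟨I, ext_hom fun U s => rel_unique I U (theta_spec I U s) ?_⟩
  obtain ⟨w, hw⟩ := I₀.subschemeι_app_surjective U (δ.app U.1 s)
  obtain ⟨z, hz⟩ := (rho_spec x B U).1 w
  refine ⟨z, ?_, by rw [hz, hw]⟩
  let a := OmegaSh.idealSect I₀ U.1 s
  have he : rho x B U (fstPull x B U a + c x B U t * z) = a := by
    have : rho x B U (c x B U t) = 0 := by
      rw [← RingHom.mem_ker, (rho_spec x B U).2]
      exact Ideal.mem_map_of_mem _ H9DefAut.eps_mem
    rw [map_add, rho_fst, map_mul, this, zero_mul, add_zero]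
  obtain ⟨s', hs'⟩ := exists_el P U (fstPull x B U a + c x B U t * z)
    ((hPr U _).2 (by rw [he]; exact OmegaLib.idealSect_mem I₀ U s))
  refine (hI U _).2 ⟨s', hs', ?_⟩
  have hφs : φ.app U.1 s' = s := OmegaLib.idealSect_injective I₀ U.1 (by rw [hφ, hs', he])
  show θ₀.app U.1 s' - δ.app U.1 (φ.app U.1 s') = 0
  rw [hφs, sub_eq_zero]
  refine (hθ₀ U s').trans ((hf U s').unique hzero ⟨0, z, zero_mem _, ?_, by rw [hz, hw]⟩)
  rw [hs', he]
  ring

end Groth.Agent.H9Hilb
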